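import Mathlib
import Groth.Prelude.Def_LCI2
import Groth.Agent.CotTLib.Smooth

/-! Relations between generators of a Koszul-regular ideal. -/

set_option autoImplicit false

noncomputable section

universe u v

open CategoryTheory CategoryTheory.Limits CochainComplex.HomComplex

namespace Groth.Agent.DefSchLib

open CotTLib

variable {R : Type u} [CommRing R]

theorem cone_decomp {K L : CochainComplex (ModuleCat.{u} R) ℤ} (φ : K ⟶ L) (i j : ℤ) (hij : i + 1 = j)
    (z : ((CochainComplex.mappingCone φ).X i : Type u)) :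
    z = ((CochainComplex.mappingCone.inl φ).v j i (by omega)).hom
        (((CochainComplex.mappingCone.fst φ : Cochain (CochainComplex.mappingCone φ) K 1).v i j hij).hom z) +
      ((CochainComplex.mappingCone.inr φ).f i).hom (((CochainComplex.mappingCone.snd φ).v i i (add_zero i)).hom z) := by
  have h := ConcreteCategory.congr_hom (CochainComplex.mappingCone.id_X φ i j hij) z
  simpa using h.symm

/-- Coordinates in the lowest degrees of a Koszul complex. -/
structure KCoord (l : List R) : Type u where
  a : ((Koszul.koszul R l).X 0 : Type u) →ₗ[R] R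
  b : ((Koszul.koszul R l).X (-1) : Type u) →ₗ[R] (Fin l.length →₀ R)
  a_bij : Function.Bijective a
  b_bij : Function.Bijective b
  isZero : ∀ i : ℤ, 0 < i → IsZero ((Koszul.koszul R l).X i)
  a_d : ∀ z, a (((Koszul.koszul R l).d (-1) 0).hom z) = Finsupp.linearCombination R l.get (b z)
  b_d : ∀ w, b (((Koszul.koszul R l).d (-2) (-1)).hom w) ∈ trivR l.get

theorem consHom_apply {n : ℕ} (r : R) (q : Fin n →₀ R) :
    Finsupp.single (0 : Fin (n + 1)) r + Finsupp.lmapDomain R R Fin.succ q = Finsupp.cons r q := by
  ext i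
  refine Fin.cases ?_ (fun j => ?_) i
  · rw [Finsupp.add_apply, Finsupp.single_eq_same, Finsupp.lmapDomain_apply,
      Finsupp.mapDomain_notin_range _ _ (by simp [Fin.succ_ne_zero]), add_zero, Finsupp.cons_zero]
  · rw [Finsupp.add_apply, Finsupp.single_eq_of_ne (Fin.succ_ne_zero j), Finsupp.lmapDomain_apply,
      Finsupp.mapDomain_apply (Fin.succ_injective n), zero_add, Finsupp.cons_succ]

theorem nonempty_kCoord : ∀ l : List R, Nonempty (KCoord l) := by
  intro l
  induction l with
  | nil =>
    have hz : ∀ i : ℤ, i ≠ 0 → IsZero ((Koszul.koszul R []).X i) := fun i hi =>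
      HomologicalComplex.isZero_single_obj_X _ _ _ _ hi
    haveI : Subsingleton ((Koszul.koszul R []).X (-1) : Type u) := ModuleCat.subsingleton_of_isZero (hz _ (by decide))
    refine ⟨⟨(HomologicalComplex.singleObjXSelf (ComplexShape.up ℤ) 0 (ModuleCat.of R R)).hom.hom, 0, ?_, ?_,
      fun i hi => hz i (ne_of_gt hi), fun z => ?_, fun w => ?_⟩⟩
    · exact ConcreteCategory.bijective_of_isIso (HomologicalComplex.singleObjXSelf (ComplexShape.up ℤ) 0 (ModuleCat.of R R)).hom
    · exact ⟨fun x y _ => Subsingleton.elim x y, fun q => ⟨0, Finsupp.ext fun i => i.elim0⟩⟩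
    · rw [Subsingleton.elim z 0, map_zero, map_zero, LinearMap.zero_apply, map_zero]
    · exact zero_mem _
  | cons f l ih =>
    obtain ⟨C⟩ := ih
    set K := Koszul.koszul R l
    let φ : K ⟶ K := f • 𝟙 K
    have hφ : ∀ (i : ℤ) (x : (K.X i : Type u)), (φ.f i).hom x = f • x := fun i x => rfl
    have h1 := C.isZero 1 one_pos
    haveI : Subsingleton (K.X 1 : Type u) := ModuleCat.subsingleton_of_isZero h1
    let fst (i j : ℤ) (h : i + 1 = j) := ((CochainComplex.mappingCone.fst φ : Cochain (CochainComplex.mappingCone φ) K 1).v i j h).hom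
    let snd (i : ℤ) := ((CochainComplex.mappingCone.snd φ).v i i (add_zero i)).hom
    let T : (R × (Fin l.length →₀ R)) →ₗ[R] (Fin (l.length + 1) →₀ R) :=
      (Finsupp.lsingle 0).coprod (Finsupp.lmapDomain R R Fin.succ)
    have hT : ∀ p, T p = Finsupp.cons p.1 p.2 := fun p => consHom_apply p.1 p.2
    let a' : ((CochainComplex.mappingCone φ).X 0 : Type u) →ₗ[R] R := C.a ∘ₗ snd 0
    let b' : ((CochainComplex.mappingCone φ).X (-1) : Type u) →ₗ[R] (Fin (l.length + 1) →₀ R) :=
      T ∘ₗ LinearMap.prod (C.a ∘ₗ fst (-1) 0 (by norm_num)) (C.b ∘ₗ snd (-1))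
    have hfi : ∀ (i j : ℤ) (hij : i + 1 = j) (x : (K.X j : Type u)),
        fst i j hij (((CochainComplex.mappingCone.inl φ).v j i (by omega)).hom x) = x ∧
          snd i (((CochainComplex.mappingCone.inl φ).v j i (by omega)).hom x) = 0 := fun i j hij x =>
      ⟨ConcreteCategory.congr_hom (CochainComplex.mappingCone.inl_v_fst_v φ j i hij) x,
        ConcreteCategory.congr_hom (CochainComplex.mappingCone.inl_v_snd_v φ j i (by omega)) x⟩
    have hri : ∀ (i j : ℤ) (hij : i + 1 = j) (x : (K.X i : Type u)),
        fst i j hij (((CochainComplex.mappingCone.inr φ).f i).hom x) = 0 ∧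
          snd i (((CochainComplex.mappingCone.inr φ).f i).hom x) = x := fun i j hij x =>
      ⟨ConcreteCategory.congr_hom (CochainComplex.mappingCone.inr_f_fst_v φ i j hij) x,
        ConcreteCategory.congr_hom (CochainComplex.mappingCone.inr_f_snd_v φ i) x⟩
    refine ⟨⟨a', b', ⟨fun x y h => ?_, fun r => ?_⟩, ⟨fun x y h => ?_, fun q => ?_⟩, fun i hi => ?_, fun z => ?_, fun w => ?_⟩⟩
    · have h2 : snd 0 x = snd 0 y := C.a_bij.1 h
      rw [cone_decomp φ 0 1 (by norm_num) x, cone_decomp φ 0 1 (by norm_num) y]
      exact congrArg₂ (· + ·) (congrArg _ (Subsingleton.elim _ _)) (congrArg _ h2)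
    · obtain ⟨x, rfl⟩ := C.a_bij.2 r
      exact ⟨((CochainComplex.mappingCone.inr φ).f 0).hom x, congrArg C.a (hri 0 1 (by norm_num) x).2⟩
    · have h2 : Finsupp.cons (C.a (fst (-1) 0 (by norm_num) x)) (C.b (snd (-1) x)) =
          Finsupp.cons (C.a (fst (-1) 0 (by norm_num) y)) (C.b (snd (-1) y)) :=
        (hT (_, _)).symm.trans (h.trans (hT (_, _)))
      have e0 := DFunLike.congr_fun h2 0
      rw [Finsupp.cons_zero, Finsupp.cons_zero] at e0
      have e1 : C.b (snd (-1) x) = C.b (snd (-1) y) := Finsupp.ext fun j => by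
        have := DFunLike.congr_fun h2 j.succ
        rwa [Finsupp.cons_succ, Finsupp.cons_succ] at this
      rw [cone_decomp φ (-1) 0 (by norm_num) x, cone_decomp φ (-1) 0 (by norm_num) y]
      exact congrArg₂ (· + ·) (congrArg _ (C.a_bij.1 e0)) (congrArg _ (C.b_bij.1 e1))
    · obtain ⟨x, hx⟩ := C.a_bij.2 (q 0)
      obtain ⟨y, hy⟩ := C.b_bij.2 q.tail
      refine ⟨((CochainComplex.mappingCone.inl φ).v 0 (-1) (by norm_num)).hom x +
        ((CochainComplex.mappingCone.inr φ).f (-1)).hom y, ?_⟩
      show T (C.a (fst (-1) 0 _ (_ + _)), C.b (snd (-1) (_ + _))) = q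
      rw [map_add (fst (-1) 0 _), map_add (snd (-1)), (hfi (-1) 0 (by norm_num) x).1, (hfi (-1) 0 (by norm_num) x).2,
        (hri (-1) 0 (by norm_num) y).1, (hri (-1) 0 (by norm_num) y).2, add_zero, zero_add, hT, hx, hy]
      exact Finsupp.cons_tail q
    · exact (CochainComplex.mappingCone.isZero_X_iff φ i).mpr ⟨C.isZero _ (by omega), C.isZero _ hi⟩
    · show C.a (snd 0 (((CochainComplex.mappingCone φ).d (-1) 0).hom z)) = Finsupp.linearCombination R (f :: l).get (T (_, _))
      have hd := ConcreteCategory.congr_hom (CochainComplex.mappingCone.d_snd_v φ (-1) 0 (by norm_num)) z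
      have hd' : snd 0 (((CochainComplex.mappingCone φ).d (-1) 0).hom z) =
          (φ.f 0).hom (fst (-1) 0 (by norm_num) z) + ((K.d (-1) 0).hom (snd (-1) z)) := hd
      rw [hd', map_add, hφ, map_smul, C.a_d]
      show _ = Finsupp.linearCombination R (f :: l).get (Finsupp.single 0 _ + Finsupp.lmapDomain R R Fin.succ _)
      rw [map_add, Finsupp.linearCombination_single, Finsupp.lmapDomain_apply, Finsupp.linearCombination_mapDomain]
      exact congrArg₂ (· + ·) (mul_comm _ _) rfl
    · have h1' := ConcreteCategory.congr_hom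
        (CochainComplex.mappingCone.d_fst_v φ (-2) (-1) 0 (by norm_num) (by norm_num)) w
      have h1 : fst (-1) 0 (by norm_num) (((CochainComplex.mappingCone φ).d (-2) (-1)).hom w) =
          -((K.d (-1) 0).hom (fst (-2) (-1) (by norm_num) w)) := h1'
      have h2' := ConcreteCategory.congr_hom (CochainComplex.mappingCone.d_snd_v φ (-2) (-1) (by norm_num)) w
      have h2 : snd (-1) (((CochainComplex.mappingCone φ).d (-2) (-1)).hom w) =
          (φ.f (-1)).hom (fst (-2) (-1) (by norm_num) w) + ((K.d (-2) (-1)).hom (snd (-2) w)) := h2'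
      show T (C.a (fst (-1) 0 (by norm_num) (((CochainComplex.mappingCone φ).d (-2) (-1)).hom w)),
        C.b (snd (-1) (((CochainComplex.mappingCone φ).d (-2) (-1)).hom w))) ∈ trivR (f :: l).get
      rw [h1, h2, map_neg, C.a_d, map_add, hφ, map_smul]
      set q := C.b (fst (-2) (-1) (by norm_num) w)
      have hlc : ∀ x, Finsupp.linearCombination R (f :: l).get (Finsupp.lmapDomain R R Fin.succ x) =
          Finsupp.linearCombination R l.get x := fun x => by
        rw [Finsupp.lmapDomain_apply, Finsupp.linearCombination_mapDomain]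
        rfl
      show Finsupp.single (0 : Fin (l.length + 1)) (-Finsupp.linearCombination R l.get q) +
        Finsupp.lmapDomain R R Fin.succ (f • q + _) ∈ trivR (f :: l).get
      rw [map_add, ← add_assoc]
      refine add_mem ?_ ((map_trivR (Finsupp.lmapDomain R R Fin.succ) hlc (C.b_d _)))
      have h3 : Finsupp.linearCombination R (f :: l).get (Finsupp.single (0 : Fin (l.length + 1)) 1) •
          Finsupp.lmapDomain R R Fin.succ q -
          Finsupp.linearCombination R (f :: l).get (Finsupp.lmapDomain R R Fin.succ q) •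
          Finsupp.single (0 : Fin (l.length + 1)) 1 ∈ trivR (f :: l).get := Submodule.subset_span ⟨_, _, rfl⟩
      rw [hlc, Finsupp.linearCombination_single, one_smul, Finsupp.smul_single, smul_eq_mul, mul_one] at h3
      rw [map_smul, Finsupp.single_neg, neg_add_eq_sub]
      exact h3

/-- The relations of a Koszul-regular sequence are the trivial ones. -/
theorem ker_le_trivR_of_isKoszulRegularSeq {l : List R} (hl : LCI.IsKoszulRegularSeq R l) :
    LinearMap.ker (Finsupp.linearCombination R l.get) ≤ trivR l.get := by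
  obtain ⟨C⟩ := nonempty_kCoord l
  intro q hq
  obtain ⟨z, rfl⟩ := C.b_bij.2 q
  have hz : ((Koszul.koszul R l).d (-1) 0).hom z = 0 := C.a_bij.1 (by
    rw [C.a_d, LinearMap.mem_ker.mp hq, map_zero])
  have hex : (Koszul.koszul R l).ExactAt (-1) := by
    rw [HomologicalComplex.exactAt_iff_isZero_homology]
    exact hl (-1) (by decide)
  rw [HomologicalComplex.exactAt_iff' _ (-2) (-1) 0 (by simp) (by simp)] at hex
  obtain ⟨w, hw⟩ := (ShortComplex.moduleCat_exact_iff _).mp hex z hz
  rw [← hw]
  exact C.b_d w

section Generators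

variable {σ : Type v} {a : σ → R}

theorem lc_smul_mem_trivR {q : σ →₀ R} (hq : Finsupp.linearCombination R a q = 0) {x : R}
    (hx : x ∈ Ideal.span (Set.range a)) : x • q ∈ trivR a := by
  obtain ⟨y, rfl⟩ : x ∈ LinearMap.range (Finsupp.linearCombination R a) := by
    rw [Finsupp.range_linearCombination]; exact hx
  have h : Finsupp.linearCombination R a y • q - Finsupp.linearCombination R a q • y ∈ trivR a :=
    Submodule.subset_span ⟨_, _, rfl⟩
  rwa [hq, zero_smul, sub_zero] at h

theorem mem_span_of_mem_trivR {q : σ →₀ R} (hq : q ∈ trivR a) (s : σ) : q s ∈ Ideal.span (Set.range a) := by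
  induction hq using Submodule.span_induction with
  | mem y hy =>
    obtain ⟨p, r, rfl⟩ := hy
    rw [Finsupp.sub_apply, Finsupp.smul_apply, Finsupp.smul_apply, smul_eq_mul, smul_eq_mul]
    refine sub_mem (Ideal.mul_mem_right _ _ ?_) (Ideal.mul_mem_right _ _ ?_) <;>
      · exact (le_of_eq (Finsupp.range_linearCombination (R := R) (v := a))) ⟨_, rfl⟩
  | zero => exact zero_mem _
  | add p r _ _ hp hr => exact add_mem hp hr
  | smul c p _ hp => exact Ideal.mul_mem_left _ _ hp

theorem mem_trivR_of_ker_le {n : ℕ} (f : Fin n → R) (hf : LinearMap.ker (Finsupp.linearCombination R f) ≤ trivR f)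
    (hspan : Ideal.span (Set.range f) = Ideal.span (Set.range a)) :
    (∀ q : σ →₀ R, Finsupp.linearCombination R a q = 0 → (∀ s, q s ∈ Ideal.span (Set.range a)) → q ∈ trivR a) ∧
    ∃ r : σ → (σ →₀ R), (∀ s, Finsupp.linearCombination R a (r s) = 0) ∧
      ∀ q : σ →₀ R, Finsupp.linearCombination R a q = 0 →
        ∀ s, (Finsupp.linearCombination R r q - q) s ∈ Ideal.span (Set.range a) := by
  have hv : ∀ s, ∃ v, Finsupp.linearCombination R f v = a s := fun s => by
    rw [← LinearMap.mem_range, Finsupp.range_linearCombination]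
    exact (le_of_eq hspan.symm) (Ideal.subset_span ⟨s, rfl⟩)
  have hu : ∀ i, ∃ x, Finsupp.linearCombination R a x = f i := fun i => by
    rw [← LinearMap.mem_range, Finsupp.range_linearCombination]
    exact (le_of_eq hspan) (Ideal.subset_span ⟨i, rfl⟩)
  choose v hv using hv
  choose x hx using hu
  let V := Finsupp.linearCombination R v
  let U := Finsupp.linearCombination R x
  have hV : ∀ y, Finsupp.linearCombination R f (V y) = Finsupp.linearCombination R a y := fun y => by
    rw [Finsupp.linearCombination_linearCombination]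
    simp only [hv]
  have hU : ∀ y, Finsupp.linearCombination R a (U y) = Finsupp.linearCombination R f y := fun y => by
    rw [Finsupp.linearCombination_linearCombination]
    simp only [hx]
  have h1 : ∀ y, Finsupp.linearCombination R a y = 0 → U (V y) ∈ trivR a := fun y hy =>
    map_trivR U hU (hf (by rw [LinearMap.mem_ker, hV, hy]))
  have h2 : ∀ y : σ →₀ R, Finsupp.linearCombination R (fun s => Finsupp.single s 1 - U (v s)) y = y - U (V y) := by
    intro y
    induction y using Finsupp.induction_linear with
    | zero => simp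
    | add p r hp hr => simp only [map_add, hp, hr]; abel
    | single s r => simp [V, smul_sub]
  have hrel : ∀ s, Finsupp.linearCombination R a (Finsupp.single s 1 - U (v s)) = 0 := fun s => by
    rw [map_sub, Finsupp.linearCombination_single, one_smul, hU, hv, sub_self]
  refine ⟨fun q hq hI => ?_, fun s => Finsupp.single s 1 - U (v s), hrel, fun q hq s => ?_⟩
  · rw [← sub_add_cancel q (U (V q)), ← h2]
    refine add_mem ?_ (h1 q hq)
    rw [Finsupp.linearCombination_apply]
    exact Submodule.sum_mem _ fun s _ => lc_smul_mem_trivR (hrel s) (hI s)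
  · rw [h2, sub_sub_cancel_left, Finsupp.neg_apply]
    exact neg_mem (mem_span_of_mem_trivR (h1 q hq) s)

end Generators

/-- Relations of arbitrary generators of a Koszul-regular ideal. -/
theorem relations_of_isKoszulRegularIdeal [IsNoetherianRing R] {I : Ideal R} (hI : LCI.IsKoszulRegularIdeal I)
    {m : ℕ} (f : Fin m → R) (hf : Ideal.span (Set.range f) = I) :
    (∀ q : Fin m →₀ R, Finsupp.linearCombination R f q = 0 → (∀ i, q i ∈ I) → q ∈ trivR f) ∧
    ∃ r : Fin m → (Fin m →₀ R), (∀ i, Finsupp.linearCombination R f (r i) = 0) ∧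
      ∀ q : Fin m →₀ R, Finsupp.linearCombination R f q = 0 →
        ∀ i, (Finsupp.linearCombination R r q - q) i ∈ I := by
  classical
  subst hf
  set I := Ideal.span (Set.range f)
  have loc : ∀ 𝔭 : PrimeSpectrum R, I ≤ 𝔭.asIdeal → ∃ h ∉ 𝔭.asIdeal,
      (∀ q : Fin m →₀ Localization.Away h, Finsupp.linearCombination (Localization.Away h) (algebraMap R (Localization.Away h) ∘ f) q = 0 →
          (∀ s, q s ∈ Ideal.span (Set.range (algebraMap R (Localization.Away h) ∘ f))) →
          q ∈ trivR (algebraMap R (Localization.Away h) ∘ f)) ∧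
      ∃ r : Fin m → (Fin m →₀ Localization.Away h), (∀ i, Finsupp.linearCombination (Localization.Away h) (algebraMap R (Localization.Away h) ∘ f) (r i) = 0) ∧
        ∀ q : Fin m →₀ Localization.Away h, Finsupp.linearCombination (Localization.Away h) (algebraMap R (Localization.Away h) ∘ f) q = 0 →
          ∀ i, (Finsupp.linearCombination (Localization.Away h) r q - q) i ∈ Ideal.span (Set.range (algebraMap R (Localization.Away h) ∘ f)) := by
    intro 𝔭 h𝔭
    obtain ⟨h, hh, l, hl, hIl⟩ := hI 𝔭 h𝔭
    refine ⟨h, hh, mem_trivR_of_ker_le l.get (ker_le_trivR_of_isKoszulRegularSeq hl) ?_⟩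
    rw [Set.range_list_get, ← hIl, Ideal.map_span, ← Set.range_comp]
  refine ⟨fun q hq hqI => ?_, ?_⟩
  · let 𝔠 : Ideal R := (trivR f).comap (LinearMap.toSpanSingleton R _ q)
    suffices h𝔠 : 𝔠 = ⊤ by
      have := (Ideal.eq_top_iff_one _).mp h𝔠
      simpa [𝔠] using this
    by_contra hne
    obtain ⟨M, hM, hle⟩ := Ideal.exists_le_maximal _ hne
    have hIc : I ≤ 𝔠 := fun x hx => lc_smul_mem_trivR hq hx
    obtain ⟨h, hh, htriv, -⟩ := loc ⟨M, hM.isPrime⟩ (hIc.trans hle)
    let μ : (Fin m →₀ R) →ₗ[R] (Fin m →₀ Localization.Away h) :=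
      Finsupp.mapRange.linearMap (Algebra.linearMap R _)
    have h1 := htriv (μ q) (by
      rw [Finsupp.linearCombination_apply, Finsupp.sum_fintype _ _ (by simp)]
      have h2 : algebraMap R (Localization.Away h) (Finsupp.linearCombination R f q) = 0 := by rw [hq, map_zero]
      rw [Finsupp.linearCombination_apply, Finsupp.sum_fintype _ _ (by simp), map_sum] at h2
      refine Eq.trans (Finset.sum_congr rfl fun i _ => ?_) h2
      rw [smul_eq_mul, smul_eq_mul, map_mul]
      rfl) (fun s => by
      rw [Set.range_comp, ← Ideal.map_span]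
      exact Ideal.mem_map_of_mem _ (hqI s))
    obtain ⟨c, hc, hcq⟩ := exists_smul_mem_trivR (Submonoid.powers h) (Localization.Away h) (q := q) h1
    obtain ⟨n, rfl⟩ := hc
    exact hh (hM.isPrime.mem_of_pow_mem n (hle hcq))
  · let 𝔞 : Ideal R :=
      { carrier := {a | ∃ r : Fin m → (Fin m →₀ R), (∀ i, Finsupp.linearCombination R f (r i) = 0) ∧
          ∀ q : Fin m →₀ R, Finsupp.linearCombination R f q = 0 →
            ∀ i, (Finsupp.linearCombination R r q - a • q) i ∈ I}
        zero_mem' := ⟨0, fun i => map_zero _, fun q _ i => by simp⟩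
        add_mem' := fun {a b} ⟨r, hr, hr'⟩ ⟨r', hs, hs'⟩ => ⟨r + r', fun i => by
          rw [Pi.add_apply, map_add, hr, hs, add_zero], fun q hq i => by
          have e : Finsupp.linearCombination R (r + r') q =
              Finsupp.linearCombination R r q + Finsupp.linearCombination R r' q := by
            simp only [Finsupp.linearCombination_apply, Pi.add_apply, smul_add, Finsupp.sum_add]
          rw [e, add_smul, add_sub_add_comm, Finsupp.add_apply]
          exact add_mem (hr' q hq i) (hs' q hq i)⟩
        smul_mem' := fun c a ⟨r, hr, hr'⟩ => ⟨c • r, fun i => by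
          rw [Pi.smul_apply, map_smul, hr, smul_zero], fun q hq i => by
          have e : Finsupp.linearCombination R (c • r) q = c • Finsupp.linearCombination R r q := by
            simp only [Finsupp.linearCombination_apply, Pi.smul_apply, Finsupp.smul_sum, smul_comm c]
          rw [e, smul_eq_mul, mul_smul, ← smul_sub, Finsupp.smul_apply]
          exact Ideal.mul_mem_left _ _ (hr' q hq i)⟩ }
    suffices h𝔞 : 𝔞 = ⊤ by
      obtain ⟨r, hr, hr'⟩ := (Ideal.eq_top_iff_one _).mp h𝔞
      exact ⟨r, hr, fun q hq i => by simpa using hr' q hq i⟩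
    by_contra hne
    obtain ⟨M, hM, hle⟩ := Ideal.exists_le_maximal _ hne
    have hIa : I ≤ 𝔞 := fun x hx => ⟨0, fun i => map_zero _, fun q _ i => by
      simpa using I.mul_mem_right (q i) hx⟩
    obtain ⟨h, hh, -, r, hr, hr'⟩ := loc ⟨M, hM.isPrime⟩ (hIa.trans hle)
    let L := Localization.Away h
    let S := Submonoid.powers h
    let μ : (Fin m →₀ R) →ₗ[R] (Fin m →₀ L) := Finsupp.mapRange.linearMap (Algebra.linearMap R _)
    have hμ : ∀ y, Finsupp.linearCombination L (algebraMap R L ∘ f) (μ y) =
        algebraMap R L (Finsupp.linearCombination R f y) := fun y => by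
      induction y using Finsupp.induction_linear with
      | zero => simp
      | add p r hp hr => simp only [map_add, hp, hr]
      | single j z => simp [μ]
    obtain ⟨b, hb⟩ := IsLocalization.exist_integer_multiples_of_finite S (fun p : Fin m × Fin m => r p.1 p.2)
    choose z hz using hb
    let r₁ : Fin m → (Fin m →₀ R) := fun i => Finsupp.equivFunOnFinite.symm fun j => z (i, j)
    have hr₁ : ∀ i, μ (r₁ i) = (b : R) • r i := fun i => Finsupp.ext fun j => hz (i, j)
    have hkill : ∀ i, ∃ e : S, (e : R) * Finsupp.linearCombination R f (r₁ i) = 0 := fun i =>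
      (IsLocalization.map_eq_zero_iff S L _).mp (by
        rw [← hμ, hr₁, LinearMap.map_smul_of_tower, hr, smul_zero])
    choose e he using hkill
    let K : Ideal R := (Ideal.span (Set.range (algebraMap R L ∘ f))).comap (algebraMap R L)
    obtain ⟨T, hT⟩ := (IsNoetherian.noetherian K)
    have hK : ∀ x ∈ K, ∃ d : S, (d : R) * x ∈ I := fun x hx => by
      have hx' : algebraMap R L x ∈ I.map (algebraMap R L) := by
        rw [Ideal.map_span, ← Set.range_comp]; exact hx
      obtain ⟨⟨y, d⟩, hyd⟩ := (IsLocalization.mem_map_algebraMap_iff S L).mp hx'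
      obtain ⟨c, hc⟩ := (IsLocalization.eq_iff_exists S L).mp
        ((map_mul (algebraMap R L) x d).trans hyd)
      refine ⟨c * d, ?_⟩
      rw [Submonoid.coe_mul, mul_assoc, mul_comm (d : R), hc]
      exact I.mul_mem_left _ y.2
    choose d hd using hK
    let D : R := ∏ x ∈ T.attach, (d x.1 (hT ▸ Submodule.subset_span x.2) : R)
    have hD : K ≤ Submodule.comap (LinearMap.mulLeft R D) I := by
      rw [← hT, Submodule.span_le]
      intro x hx
      show D * x ∈ I
      rw [show D = _ from (Finset.prod_erase_mul T.attach (fun x => (d x.1 (hT ▸ Submodule.subset_span x.2) : R))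
        (Finset.mem_attach _ ⟨x, hx⟩)).symm, mul_assoc]
      exact I.mul_mem_left _ (hd x _)
    let E : R := ∏ i, (e i : R)
    have hE : ∀ i, E * Finsupp.linearCombination R f (r₁ i) = 0 := fun i => by
      rw [show E = _ from (Finset.prod_erase_mul Finset.univ (fun i => (e i : R)) (Finset.mem_univ i)).symm,
        mul_assoc, he, mul_zero]
    have hmem : D * E * b ∈ 𝔞 := by
      refine ⟨fun i => (D * E) • r₁ i, fun i => by rw [map_smul, smul_eq_mul, mul_assoc, hE, mul_zero],
        fun q hq i => ?_⟩
      have h1 := hr' (μ q) (by rw [hμ, hq, map_zero]) i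
      have hlin : ∀ y : Fin m →₀ R, μ (Finsupp.linearCombination R r₁ y - (b : R) • y) =
          (b : R) • (Finsupp.linearCombination L r (μ y) - μ y) := fun y => by
        induction y using Finsupp.induction_linear with
        | zero => simp
        | add p r hp hr => simp only [map_add, map_sub, smul_add, smul_sub] at hp hr ⊢; linear_combination (norm := abel) hp + hr
        | single j w =>
          rw [map_sub, Finsupp.linearCombination_single, map_smul, map_smul, hr₁,
            show μ (Finsupp.single j w) = Finsupp.single j (algebraMap R L w) from Finsupp.mapRange_single (hf := map_zero _),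
            Finsupp.linearCombination_single, algebraMap_smul, smul_sub, smul_comm w]
      have h2 : (Finsupp.linearCombination R r₁ q - (b : R) • q) i ∈ K := by
        show algebraMap R L _ ∈ Ideal.span (Set.range (algebraMap R L ∘ f))
        rw [show algebraMap R L ((Finsupp.linearCombination R r₁ q - (b : R) • q) i) =
          μ (Finsupp.linearCombination R r₁ q - (b : R) • q) i from rfl, hlin, Finsupp.smul_apply, Algebra.smul_def]
        exact Ideal.mul_mem_left _ _ h1
      have e1 : Finsupp.linearCombination R (fun i => (D * E) • r₁ i) q = (D * E) • Finsupp.linearCombination R r₁ q := by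
        simp only [Finsupp.linearCombination_apply, Finsupp.smul_sum, smul_comm (D * E)]
      rw [e1, mul_smul (D * E), ← smul_sub, Finsupp.smul_apply, smul_eq_mul, mul_comm D E, mul_assoc]
      exact I.mul_mem_left _ (hD h2)
    have hpow : ∀ c : S, (c : R) ∉ M := fun c hc => by
      obtain ⟨n, hn⟩ := c.2
      exact hh (hM.isPrime.mem_of_pow_mem n (by rw [show h ^ n = (c : R) from hn]; exact hc))
    have hM' := hle hmem
    rcases hM.isPrime.mem_or_mem hM' with h' | h'
    · rcases hM.isPrime.mem_or_mem h' with h'' | h''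
      · obtain ⟨x, -, hx⟩ := hM.isPrime.prod_mem_iff.mp h''
        exact hpow _ hx
      · obtain ⟨x, -, hx⟩ := hM.isPrime.prod_mem_iff.mp h''
        exact hpow _ hx
    · exact hpow b h'

end Groth.Agent.DefSchLib
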