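import Mathlib
import Groth.Prelude.Def_ArtFun4
import Groth.Agent.Thicken.Affine

/-! Deformations of an affine scheme are the spectra of flat lifts of its ring. -/

set_option autoImplicit false

noncomputable section

universe u

open CategoryTheory CategoryTheory.Limits AlgebraicGeometry IsLocalRing

namespace Groth.Agent.DefSchLib

open ArtFun ArtFun.Art

/-- A square with surjective horizontal maps whose kernels correspond is a pushout. -/
theorem isPushout_of_surjective {A B R S : CommRingCat.{u}} {α : A ⟶ R} {g : A ⟶ B} {φ : R ⟶ S} {β : B ⟶ S}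
    (w : α ≫ φ = g ≫ β) (hg : Function.Surjective g.hom) (hφ : Function.Surjective φ.hom)
    (hker : RingHom.ker φ.hom = (RingHom.ker g.hom).map α.hom) : IsPushout α g φ β := by
  have key : ∀ s : PushoutCocone α g, RingHom.ker φ.hom ≤ RingHom.ker s.inl.hom := fun s => by
    rw [hker, Ideal.map_le_iff_le_comap]
    intro a ha
    rw [Ideal.mem_comap, RingHom.mem_ker]
    have h := ConcreteCategory.congr_hom s.condition a
    change s.inl.hom (α.hom a) = s.inr.hom (g.hom a) at h
    rw [h, RingHom.mem_ker.mp ha, map_zero]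
  let desc : ∀ s : PushoutCocone α g, S ⟶ s.pt := fun s =>
    CommRingCat.ofHom (RingHom.liftOfSurjective φ.hom hφ ⟨s.inl.hom, key s⟩)
  have hdesc : ∀ (s : PushoutCocone α g) r, (desc s).hom (φ.hom r) = s.inl.hom r := fun s r =>
    RingHom.liftOfRightInverse_comp_apply φ.hom _ (Function.surjInv_eq hφ) ⟨s.inl.hom, key s⟩ r
  refine IsPushout.of_isColimit' ⟨w⟩ (PushoutCocone.IsColimit.mk _ desc
    (fun s => CommRingCat.hom_ext (RingHom.ext fun r => hdesc s r))
    (fun s => CommRingCat.hom_ext (RingHom.ext fun b => ?_))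
    (fun s m h1 _ => CommRingCat.hom_ext (RingHom.ext fun y => ?_)))
  · obtain ⟨a, rfl⟩ := hg b
    have h := ConcreteCategory.congr_hom s.condition a
    have h' := ConcreteCategory.congr_hom w a
    show (desc s).hom (β.hom (g.hom a)) = s.inr.hom (g.hom a)
    rw [show β.hom (g.hom a) = φ.hom (α.hom a) from h'.symm, hdesc]
    exact h
  · obtain ⟨r, rfl⟩ := hφ y
    rw [hdesc]
    exact ConcreteCategory.congr_hom h1 r

/-- Conversely, the base change of a surjection in a pushout is a surjection with the generated kernel. -/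
theorem surjective_ker_of_isPushout {A B R S : CommRingCat.{u}} {α : A ⟶ R} {g : A ⟶ B} {φ : R ⟶ S} {β : B ⟶ S}
    (h : IsPushout α g φ β) (hg : Function.Surjective g.hom) :
    Function.Surjective φ.hom ∧ RingHom.ker φ.hom = (RingHom.ker g.hom).map α.hom := by
  let K := (RingHom.ker g.hom).map α.hom
  let mk' : R ⟶ CommRingCat.of (R ⧸ K) := CommRingCat.ofHom (Ideal.Quotient.mk K)
  have hle : RingHom.ker g.hom ≤ RingHom.ker ((Ideal.Quotient.mk K).comp α.hom) := fun a ha =>
    Ideal.Quotient.eq_zero_iff_mem.mpr (Ideal.mem_map_of_mem α.hom ha)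
  let c : B ⟶ CommRingCat.of (R ⧸ K) :=
    CommRingCat.ofHom (RingHom.liftOfSurjective g.hom hg ⟨_, hle⟩)
  have hw : α ≫ mk' = g ≫ c := CommRingCat.hom_ext (RingHom.ext fun a =>
    (RingHom.liftOfRightInverse_comp_apply g.hom _ (Function.surjInv_eq hg) ⟨_, hle⟩ a).symm)
  have h0 : ∀ a, φ.hom (α.hom a) = β.hom (g.hom a) := fun a => ConcreteCategory.congr_hom h.w a
  have hd : ∀ r, (h.desc mk' c hw).hom (φ.hom r) = Ideal.Quotient.mk K r := fun r =>
    ConcreteCategory.congr_hom (h.inl_desc mk' c hw) r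
  have hKle : K ≤ RingHom.ker φ.hom := by
    rw [Ideal.map_le_iff_le_comap]
    intro a ha
    rw [Ideal.mem_comap, RingHom.mem_ker, h0, RingHom.mem_ker.mp ha, map_zero]
  refine ⟨fun s => ?_, le_antisymm (fun r hr => ?_) hKle⟩
  · have h1 := CommRingCat.closure_range_union_range_eq_top_of_isPushout h
    have h2 : Subring.closure (Set.range φ ∪ Set.range β) ≤ φ.hom.range := by
      rw [Subring.closure_le]
      rintro _ (⟨r, rfl⟩ | ⟨b, rfl⟩)
      · exact ⟨r, rfl⟩
      · obtain ⟨a, rfl⟩ := hg b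
        exact ⟨α.hom a, h0 a⟩
    exact h2 (h1 ▸ Subring.mem_top s)
  · rw [← Ideal.Quotient.eq_zero_iff_mem, ← hd, RingHom.mem_ker.mp hr, map_zero]

variable {Λ k : Type u} [CommRing Λ] [Field k] [Algebra Λ k] (B₀ : Type u) [CommRing B₀] [Algebra k B₀]

/-- The structure morphism of `Spec B₀`. -/
abbrev base0 : Spec (CommRingCat.of B₀) ⟶ Spec (CommRingCat.of k) :=
  Spec.map (CommRingCat.ofHom (algebraMap k B₀))

/-- A flat lift of the ring `B₀` over `A`. -/
structure RingDef (A : Art Λ k) : Type (u + 1) where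
  R : Type u
  [commRing : CommRing R]
  str : A →+* R
  flat : str.Flat
  π : R →+* B₀
  π_surjective : Function.Surjective π
  π_str : ∀ a : A, π (str a) = algebraMap k B₀ (A.res a)
  ker_π : RingHom.ker π = (maximalIdeal A).map str

attribute [instance] RingDef.commRing

variable {B₀}

namespace RingDef

variable {A B : Art Λ k}

/-- Isomorphisms of lifts. -/
structure Iso (D D' : RingDef B₀ A) : Type u where
  e : D.R ≃+* D'.R
  e_str : ∀ a, e (D.str a) = D'.str a
  π_e : ∀ r, D'.π (e r) = D.π r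

theorem ker_res (A : Art Λ k) : RingHom.ker (A.res : A →+* k) = maximalIdeal A :=
  Ideal.ext fun a => by rw [RingHom.mem_ker]; exact (A.mem_maximalIdeal_iff a).symm

theorem isPushout (D : RingDef B₀ A) : IsPushout (CommRingCat.ofHom D.str) (CommRingCat.ofHom A.res.toRingHom)
    (CommRingCat.ofHom D.π) (CommRingCat.ofHom (algebraMap k B₀)) :=
  isPushout_of_surjective (CommRingCat.hom_ext (RingHom.ext D.π_str)) A.res_surjective D.π_surjective (by
    show RingHom.ker D.π = (RingHom.ker (A.res : A →+* k)).map D.str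
    rw [D.ker_π, ker_res])

/-- The spectrum of a lift. -/
def toSch (D : RingDef B₀ A) : DefSch (Spec (CommRingCat.of B₀)) (base0 B₀) A where
  total := Spec (CommRingCat.of D.R)
  f := Spec.map (CommRingCat.ofHom D.str)
  flat := (HasRingHomProperty.Spec_iff (P := @Flat)).mpr D.flat
  i := Spec.map (CommRingCat.ofHom D.π)
  isPullback := isPullback_SpecMap_of_isPushout _ _ _ _ D.isPushout

theorem exists_iso_toSch (ξ : DefSch (Spec (CommRingCat.of B₀)) (base0 B₀) A) :
    ∃ D : RingDef B₀ A, Nonempty (DefSch.Iso D.toSch ξ) := by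
  haveI : IsClosedImmersion (specRes A) := IsClosedImmersion.spec_of_surjective _ A.res_surjective
  haveI : IsClosedImmersion ξ.i := MorphismProperty.of_isPullback (P := @IsClosedImmersion) ξ.isPullback.flip inferInstance
  haveI : Subsingleton (PrimeSpectrum A) := ⟨fun a b => PrimeSpectrum.ext
    ((IsLocalRing.eq_maximalIdeal (IsArtinianRing.isMaximal_of_isPrime a.asIdeal)).trans
      (IsLocalRing.eq_maximalIdeal (IsArtinianRing.isMaximal_of_isPrime b.asIdeal)).symm)⟩
  have hi : Function.Surjective ξ.i := by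
    haveI : Surjective (specRes A) := ⟨fun x => ⟨⟨⊥, Ideal.isPrime_bot⟩, Subsingleton.elim (α := PrimeSpectrum A) _ _⟩⟩
    haveI : Surjective ξ.i := MorphismProperty.of_isPullback (P := @Surjective) ξ.isPullback.flip inferInstance
    exact Surjective.surj
  haveI : IsAffine ξ.total := Thicken.isAffine ξ.i hi
  let αc : CommRingCat.of A ⟶ Γ(ξ.total, ⊤) := (Scheme.ΓSpecIso _).inv ≫ ξ.f.appTop
  let πc : Γ(ξ.total, ⊤) ⟶ CommRingCat.of B₀ := ξ.i.appTop ≫ (Scheme.ΓSpecIso _).hom
  have hf : ξ.f = ξ.total.isoSpec.hom ≫ Spec.map αc := by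
    rw [Spec.map_comp, ← Category.assoc, Scheme.isoSpec_hom_naturality, Category.assoc, Scheme.isoSpec_hom,
      toSpecΓ_SpecMap_ΓSpecIso_inv, Category.comp_id]
  have hπ : Spec.map πc = ξ.i ≫ ξ.total.isoSpec.hom := by
    rw [Spec.map_comp, ← Scheme.isoSpec_hom_naturality, Scheme.isoSpec_hom, SpecMap_ΓSpecIso_hom]
  have hpo : IsPushout αc (CommRingCat.ofHom A.res.toRingHom) πc (CommRingCat.ofHom (algebraMap k B₀)) :=
    (isPushout_appTop_of_isPullback ξ.isPullback.flip).flip.of_iso (Scheme.ΓSpecIso _) (Iso.refl _)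
      (Scheme.ΓSpecIso _) (Scheme.ΓSpecIso _) (by simp [αc]) (Scheme.ΓSpecIso_naturality _) (by simp [πc])
      (Scheme.ΓSpecIso_naturality _)
  obtain ⟨hsurj, hker⟩ := surjective_ker_of_isPushout hpo A.res_surjective
  let D : RingDef B₀ A :=
    { R := Γ(ξ.total, ⊤)
      str := αc.hom
      flat := RingHom.Flat.comp (RingHom.Flat.of_bijective
        (ConcreteCategory.bijective_of_isIso (Scheme.ΓSpecIso (CommRingCat.of A)).inv)) ξ.f.flat_appTop
      π := πc.hom
      π_surjective := hsurj
      π_str := fun a => ConcreteCategory.congr_hom hpo.w a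
      ker_π := by
        rw [hker]
        exact congrArg _ (ker_res A) }
  refine ⟨D, ⟨⟨ξ.total.isoSpec.symm, ?_, ?_⟩⟩⟩
  · show ξ.total.isoSpec.inv ≫ ξ.f = Spec.map αc
    rw [hf, Iso.inv_hom_id_assoc]
  · show Spec.map πc ≫ ξ.total.isoSpec.inv = ξ.i
    rw [hπ, Category.assoc, Iso.hom_inv_id, Category.comp_id]

/-- An isomorphism of lifts gives one of spectra. -/
def Iso.toSch {D D' : RingDef B₀ A} (e : D.Iso D') : DefSch.Iso D.toSch D'.toSch where
  iso := Scheme.Spec.mapIso e.e.toCommRingCatIso.symm.op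
  hom_f := by
    show Spec.map _ ≫ Spec.map _ = Spec.map _
    rw [← Spec.map_comp]
    congr 1
    ext a
    show e.e.symm (D'.str a) = D.str a
    rw [← e.e_str, RingEquiv.symm_apply_apply]
  i_hom := by
    show Spec.map _ ≫ Spec.map _ = Spec.map _
    rw [← Spec.map_comp]
    congr 1
    ext r
    show D.π (e.e.symm r) = D'.π r
    conv_rhs => rw [← e.e.apply_symm_apply r]
    exact (e.π_e _).symm

/-- An isomorphism of spectra comes from one of lifts. -/
theorem exists_iso_of_toSch {D D' : RingDef B₀ A} (φ : DefSch.Iso D.toSch D'.toSch) :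
    ∃ e : D.Iso D', e.toSch.iso = φ.iso := by
  let a := Spec.preimage φ.iso.hom
  let b := Spec.preimage φ.iso.inv
  have ha : Spec.map a = φ.iso.hom := Spec.map_preimage _
  have hb : Spec.map b = φ.iso.inv := Spec.map_preimage _
  have hab : a ≫ b = 𝟙 _ := Spec.map_injective (by rw [Spec.map_comp, hb, ha, Spec.map_id]; exact φ.iso.inv_hom_id)
  have hba : b ≫ a = 𝟙 _ := Spec.map_injective (by rw [Spec.map_comp, hb, ha, Spec.map_id]; exact φ.iso.hom_inv_id)
  let ee : CommRingCat.of D.R ≅ CommRingCat.of D'.R := ⟨b, a, hba, hab⟩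
  have h1 : CommRingCat.ofHom D'.str ≫ a = CommRingCat.ofHom D.str :=
    Spec.map_injective (by rw [Spec.map_comp, ha]; exact φ.hom_f)
  have h2 : a ≫ CommRingCat.ofHom D.π = CommRingCat.ofHom D'.π :=
    Spec.map_injective (by rw [Spec.map_comp, ha]; exact φ.i_hom)
  refine ⟨⟨ee.commRingCatIsoToRingEquiv, fun x => ?_, fun r => ?_⟩, ?_⟩
  · show b.hom (D.str x) = D'.str x
    rw [← show a.hom (D'.str x) = D.str x from ConcreteCategory.congr_hom h1 x]
    exact ConcreteCategory.congr_hom hab (D'.str x)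
  · show D'.π (b.hom r) = D.π r
    rw [← show D.π (a.hom (b.hom r)) = D'.π (b.hom r) from ConcreteCategory.congr_hom h2 (b.hom r)]
    exact congrArg D.π (ConcreteCategory.congr_hom hba r)
  · refine CategoryTheory.Iso.ext ?_
    exact Eq.trans (congrArg Spec.map rfl) ha

/-- A pushout of lifts computes the base change. -/
theorem exists_iso_baseChange (g : A ⟶ B) (D : RingDef B₀ A) (D' : RingDef B₀ B) (φ : D.R →+* D'.R)
    (h : IsPushout (CommRingCat.ofHom D.str) (CommRingCat.ofHom g.toAlgHom.toRingHom) (CommRingCat.ofHom φ)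
      (CommRingCat.ofHom D'.str)) (hπ : ∀ r, D'.π (φ r) = D.π r) :
    ∃ Φ : DefSch.Iso D'.toSch (D.toSch.baseChange g),
      Φ.iso.hom ≫ pullback.fst D.toSch.f (specMap g) = Spec.map (CommRingCat.ofHom φ) := by
  have hp : IsPullback (Spec.map (CommRingCat.ofHom φ)) D'.toSch.f D.toSch.f (specMap g) :=
    isPullback_SpecMap_of_isPushout _ _ _ _ h
  refine ⟨⟨hp.isoPullback, hp.isoPullback_hom_snd, ?_⟩, hp.isoPullback_hom_fst⟩
  apply pullback.hom_ext
  · erw [Category.assoc, hp.isoPullback_hom_fst, DefSch.baseChange_i_fst]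
    show Spec.map _ ≫ Spec.map _ = Spec.map _
    rw [← Spec.map_comp]
    congr 1
    ext r
    exact hπ r
  · erw [Category.assoc, hp.isoPullback_hom_snd]
    exact D'.toSch.i_f.trans (DefSch.baseChange_i_f D.toSch g).symm

end RingDef

end Groth.Agent.DefSchLib
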