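import Mathlib
import Groth.Agent.DefSchLib.Affine

/-! Morphisms of lifts of a ring over a morphism of objects are base changes; lifted bases. -/

set_option autoImplicit false

noncomputable section

universe u

open CategoryTheory CategoryTheory.Limits AlgebraicGeometry IsLocalRing
open scoped TensorProduct

namespace Groth.Agent.DefSchLib

open ArtFun ArtFun.Art

variable {Λ k : Type u} [CommRing Λ] [Field k] [Algebra Λ k] {B₀ : Type u} [CommRing B₀] [Algebra k B₀]

theorem maximalIdeal_isNilpotent (A : Art Λ k) : IsNilpotent (maximalIdeal A) := by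
  rw [← jacobson_eq_maximalIdeal (⊥ : Ideal A) bot_ne_top]
  exact IsArtinianRing.isNilpotent_jacobson_bot

theorem eq_top_of_sup_smul_eq_top {R M : Type*} [CommRing R] [AddCommGroup M] [Module R M] {I : Ideal R}
    (hI : IsNilpotent I) {N : Submodule R M} (h : N ⊔ I • ⊤ = ⊤) : N = ⊤ := by
  have key : ∀ n : ℕ, N ⊔ I ^ n • ⊤ = ⊤ := by
    intro n
    induction n with
    | zero => simp
    | succ n ih =>
      have h2 : I • (N ⊔ I ^ n • (⊤ : Submodule R M)) = I • ⊤ := by rw [ih]
      rw [Submodule.smul_sup, ← Submodule.smul_assoc, smul_eq_mul, ← pow_succ'] at h2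
      refine top_le_iff.mp ?_
      calc (⊤ : Submodule R M) = N ⊔ I • ⊤ := h.symm
        _ = N ⊔ (I • N ⊔ I ^ (n + 1) • ⊤) := by rw [h2]
        _ ≤ N ⊔ I ^ (n + 1) • ⊤ := sup_le le_sup_left (sup_le (Submodule.smul_le_right.trans le_sup_left) le_sup_right)
  obtain ⟨n, hn⟩ := hI
  have := key n
  rwa [hn, Ideal.zero_eq_bot, Submodule.bot_smul, sup_bot_eq] at this

/-- A morphism of lifts over a morphism of objects. -/
structure Hom {A B : Art Λ k} (g : A ⟶ B) (D : RingDef B₀ A) (D' : RingDef B₀ B) : Type u where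
  φ : D.R →+* D'.R
  φ_str : ∀ a, φ (D.str a) = D'.str (g a)
  π_φ : ∀ r, D'.π (φ r) = D.π r

namespace RingDef

variable {A B : Art Λ k} (D : RingDef B₀ A)

theorem π_smul (a : A) (r : D.R) :
    letI := D.str.toAlgebra
    D.π (a • r) = A.res a • D.π r := by
  letI := D.str.toAlgebra
  show D.π (D.str a * r) = _
  rw [map_mul, D.π_str, Algebra.smul_def]

theorem mem_of_π_eq_zero {r : D.R} (h : D.π r = 0) :
    letI := D.str.toAlgebra
    r ∈ (maximalIdeal A • ⊤ : Submodule A D.R) := by
  letI := D.str.toAlgebra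
  have h1 : r ∈ (maximalIdeal A).map D.str := D.ker_π ▸ RingHom.mem_ker.mpr h
  rw [show D.str = algebraMap A D.R from rfl] at h1
  rw [Ideal.smul_top_eq_map]
  exact h1

section Basis

variable {ι : Type u} (b : Module.Basis ι k B₀) (x : ι → D.R) (hx : ∀ i, D.π (x i) = b i)

include hx in
theorem linearIndependent_lift :
    letI := D.str.toAlgebra
    LinearIndependent A x := by
  letI := D.str.toAlgebra
  haveI : Module.Flat A D.R := D.flat
  refine Module.IsLocalRing.linearIndependent_of_flat x (linearIndependent_iff'.mpr fun s c hc i hi => ?_)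
  choose a ha using fun j => Ideal.Quotient.mk_surjective (c j)
  have h1 : ∑ j ∈ s, a j • x j ∈ (maximalIdeal A • ⊤ : Submodule A D.R) := by
    rw [← LinearMap.ker_tensorProductMk, LinearMap.mem_ker, map_sum]
    refine Eq.trans (Finset.sum_congr rfl fun j _ => ?_) hc
    rw [map_smul, ← ha j]
    show a j • ((1 : ResidueField A) ⊗ₜ[A] x j) = residue A (a j) • ((1 : ResidueField A) ⊗ₜ[A] x j)
    rw [← ResidueField.algebraMap_eq, algebraMap_smul]
  have h2 : D.π (∑ j ∈ s, a j • x j) = 0 := by
    rw [Ideal.smul_top_eq_map] at h1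
    have h3 : (∑ j ∈ s, a j • x j) ∈ RingHom.ker D.π := by rw [D.ker_π]; exact h1
    exact h3
  rw [map_sum] at h2
  simp only [π_smul, hx] at h2
  have h4 := linearIndependent_iff'.mp b.linearIndependent s _ h2 i hi
  rw [← ha i]
  exact Ideal.Quotient.eq_zero_iff_mem.mpr ((A.mem_maximalIdeal_iff _).mpr h4)

include hx in
theorem span_lift :
    letI := D.str.toAlgebra
    Submodule.span A (Set.range x) = ⊤ := by
  letI := D.str.toAlgebra
  refine eq_top_of_sup_smul_eq_top (maximalIdeal_isNilpotent A) (top_le_iff.mp fun r _ => ?_)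
  choose a ha using A.res_surjective
  let c := b.repr (D.π r)
  have h1 : D.π (r - ∑ i ∈ c.support, a (c i) • x i) = 0 := by
    rw [map_sub, map_sum]
    simp only [π_smul, hx, ha]
    rw [sub_eq_zero]
    exact (b.linearCombination_repr (D.π r)).symm
  rw [← sub_add_cancel r (∑ i ∈ c.support, a (c i) • x i), add_comm]
  exact Submodule.add_mem_sup (Submodule.sum_mem _ fun i _ => Submodule.smul_mem _ _ (Submodule.subset_span ⟨i, rfl⟩))
    (mem_of_π_eq_zero D h1)

/-- A lift of a basis of `B₀` is a basis of the lift. -/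
def basisLift :
    letI := D.str.toAlgebra
    Module.Basis ι A D.R :=
  letI := D.str.toAlgebra
  Module.Basis.mk (D.linearIndependent_lift b x hx) (D.span_lift b x hx).ge

theorem basisLift_apply (i : ι) :
    letI := D.str.toAlgebra
    D.basisLift b x hx i = x i :=
  letI := D.str.toAlgebra
  Module.Basis.mk_apply _ _ i

end Basis

end RingDef

namespace Hom

variable {A B : Art Λ k} {g : A ⟶ B} {D : RingDef B₀ A} {D' : RingDef B₀ B} (f : Hom g D D')

/-- A morphism of lifts exhibits the target as the base change of the source. -/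
theorem isPushout : IsPushout (CommRingCat.ofHom D.str) (CommRingCat.ofHom g.toAlgHom.toRingHom)
    (CommRingCat.ofHom f.φ) (CommRingCat.ofHom D'.str) := by
  letI := D.str.toAlgebra
  letI : Algebra B D'.R := D'.str.toAlgebra
  letI : Algebra A B := g.toAlgHom.toRingHom.toAlgebra
  letI : Algebra D.R D'.R := f.φ.toAlgebra
  letI : Algebra A D'.R := (D'.str.comp g.toAlgHom.toRingHom).toAlgebra
  haveI : IsScalarTower A B D'.R := IsScalarTower.of_algebraMap_eq fun _ => rfl
  haveI : IsScalarTower A D.R D'.R := IsScalarTower.of_algebraMap_eq fun a => (f.φ_str a).symm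
  let b := Module.Basis.ofVectorSpace k B₀
  choose x hx using fun i => D.π_surjective (b i)
  let β := D.basisLift b x hx
  let β' := D'.basisLift b (fun i => f.φ (x i)) fun i => (f.π_φ _).trans (hx i)
  let F : D.R →ₗ[A] D'.R := (IsScalarTower.toAlgHom A D.R D'.R).toLinearMap
  have hF : IsBaseChange B F := IsBaseChange.of_equiv ((β.baseChange B).equiv β' (Equiv.refl _)) (by
    have : ((β.baseChange B).equiv β' (Equiv.refl _)).toLinearMap.restrictScalars A ∘ₗ
        (TensorProduct.mk A B D.R 1) = F := by
      refine β.ext fun i => ?_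
      show (β.baseChange B).equiv β' (Equiv.refl _) (1 ⊗ₜ β i) = f.φ (β i)
      rw [← Module.Basis.baseChange_apply, Module.Basis.equiv_apply, RingDef.basisLift_apply,
        RingDef.basisLift_apply]
      rfl
    exact fun z => LinearMap.congr_fun this z)
  exact (CommRingCat.isPushout_iff_isPushout (R := A) (S := B) (R' := D.R) (S' := D'.R)).mpr
    (Algebra.IsPushout.symm ⟨hF⟩)

theorem surjective_φ (hg : Function.Surjective g) : Function.Surjective f.φ :=
  (surjective_ker_of_isPushout f.isPushout hg).1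

theorem ker_φ (hg : Function.Surjective g) : RingHom.ker f.φ = (RingHom.ker g.toAlgHom).map D.str :=
  (surjective_ker_of_isPushout f.isPushout hg).2

/-- A morphism of lifts gives an isomorphism with the base change of spectra. -/
theorem exists_iso : ∃ Φ : DefSch.Iso D'.toSch (D.toSch.baseChange g),
    Φ.iso.hom ≫ pullback.fst D.toSch.f (specMap g) = Spec.map (CommRingCat.ofHom f.φ) :=
  RingDef.exists_iso_baseChange g D D' f.φ f.isPushout f.π_φ

end Hom

/-- An isomorphism with a base change gives a morphism of lifts. -/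
theorem exists_hom {A B : Art Λ k} {g : A ⟶ B} {D : RingDef B₀ A} {D' : RingDef B₀ B}
    (e : DefSch.Iso D'.toSch (D.toSch.baseChange g)) :
    ∃ f : Hom g D D', e.iso.hom ≫ pullback.fst D.toSch.f (specMap g) = Spec.map (CommRingCat.ofHom f.φ) := by
  let ψ : Spec (CommRingCat.of D'.R) ⟶ Spec (CommRingCat.of D.R) := e.iso.hom ≫ pullback.fst D.toSch.f (specMap g)
  have hψ : Spec.map (Spec.preimage ψ) = ψ := Spec.map_preimage _
  have h1 : CommRingCat.ofHom D.str ≫ Spec.preimage ψ = CommRingCat.ofHom g.toAlgHom.toRingHom ≫ CommRingCat.ofHom D'.str :=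
    Spec.map_injective (by
      rw [Spec.map_comp, Spec.map_comp, hψ]
      show (e.iso.hom ≫ pullback.fst D.toSch.f (specMap g)) ≫ D.toSch.f = D'.toSch.f ≫ specMap g
      exact (Category.assoc _ _ _).trans (((congrArg (e.iso.hom ≫ ·) pullback.condition)).trans
        ((Category.assoc _ _ _).symm.trans (congrArg (· ≫ specMap g) e.hom_f))))
  have h2 : Spec.preimage ψ ≫ CommRingCat.ofHom D'.π = CommRingCat.ofHom D.π :=
    Spec.map_injective (by
      rw [Spec.map_comp, hψ]
      show D'.toSch.i ≫ e.iso.hom ≫ pullback.fst D.toSch.f (specMap g) = D.toSch.i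
      exact ((Category.assoc _ _ _).symm.trans (congrArg (· ≫ pullback.fst D.toSch.f (specMap g)) e.i_hom)).trans
        (DefSch.baseChange_i_fst D.toSch g))
  exact ⟨⟨(Spec.preimage ψ).hom, fun a => ConcreteCategory.congr_hom h1 a, fun r => ConcreteCategory.congr_hom h2 r⟩,
    hψ.symm⟩

end Groth.Agent.DefSchLib
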