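import Mathlib
import Groth.Prelude.Def_ArtFun2
import Groth.Agent.DefSchLib.Morph

/-! Fibre products of lifts; the deformation functor of an affine scheme is homogeneous. -/

set_option autoImplicit false

noncomputable section

universe u

open CategoryTheory CategoryTheory.Limits AlgebraicGeometry IsLocalRing

namespace Groth.Agent.DefSchLib

open ArtFun ArtFun.Art

variable {Λ k : Type u} [CommRing Λ] [Field k] [Algebra Λ k] {B₀ : Type u} [CommRing B₀] [Algebra k B₀]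

namespace Hom

variable {A B C : Art Λ k} {f : A ⟶ B} {g : B ⟶ C} {D : RingDef B₀ A} {D' : RingDef B₀ B} {D'' : RingDef B₀ C}

/-- Composition of morphisms of lifts. -/
def comp (a : Hom f D D') (b : Hom g D' D'') : Hom (f ≫ g) D D'' where
  φ := b.φ.comp a.φ
  φ_str x := by
    show b.φ (a.φ (D.str x)) = _
    rw [a.φ_str, b.φ_str]
    rfl
  π_φ r := (b.π_φ _).trans (a.π_φ r)

/-- A morphism over the identity is an isomorphism. -/
def toIso {D E : RingDef B₀ A} (a : Hom (𝟙 A) D E) : D.Iso E where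
  e := RingEquiv.ofBijective a.φ (show Function.Bijective a.φ from ⟨(RingHom.injective_iff_ker_eq_bot a.φ).mpr (by
      rw [a.ker_φ Function.surjective_id, show RingHom.ker (𝟙 A : A ⟶ A).toAlgHom = ⊥ from
        (RingHom.injective_iff_ker_eq_bot _).mp Function.injective_id]
      exact Ideal.map_bot), a.surjective_φ Function.surjective_id⟩)
  e_str := a.φ_str
  π_e := a.π_φ

/-- An isomorphism is a morphism over the identity. -/
def ofIso {D E : RingDef B₀ A} (e : D.Iso E) : Hom (𝟙 A) D E where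
  φ := e.e.toRingHom
  φ_str := e.e_str
  π_φ := e.π_e

theorem cl_eq {A B : Art Λ k} {g : A ⟶ B} {D : RingDef B₀ A} {D' : RingDef B₀ B} (a : Hom g D D') :
    (defFunctor (Λ := Λ) (Spec (CommRingCat.of B₀)) (base0 B₀)).map g D.toSch.cl = D'.toSch.cl := by
  obtain ⟨Φ, -⟩ := a.exists_iso
  exact (Quotient.sound (s := DefSch.setoid _ _ _) ⟨Φ⟩).symm

end Hom

theorem exists_hom_of_cl_eq {A B : Art Λ k} {g : A ⟶ B} {D : RingDef B₀ A} {D' : RingDef B₀ B}
    (h : (defFunctor (Λ := Λ) (Spec (CommRingCat.of B₀)) (base0 B₀)).map g D.toSch.cl = D'.toSch.cl) :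
    Nonempty (Hom g D D') := by
  obtain ⟨e⟩ := Quotient.exact h.symm
  obtain ⟨f, -⟩ := exists_hom e
  exact ⟨f⟩

theorem exists_cl_eq {A : Art Λ k} (z : (defFunctor (Λ := Λ) (Spec (CommRingCat.of B₀)) (base0 B₀)).obj A) :
    ∃ D : RingDef B₀ A, D.toSch.cl = z := by
  induction z using Quotient.inductionOn with
  | h ξ =>
    obtain ⟨D, ⟨φ⟩⟩ := RingDef.exists_iso_toSch ξ
    exact ⟨D, Quotient.sound ⟨φ⟩⟩

section Base

variable (B₀ Λ)

theorem maximalIdeal_base : maximalIdeal (Art.base Λ k) = ⊥ :=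
  le_bot_iff.mp fun _ hc => Ideal.mem_bot.mpr (((Art.base Λ k).mem_maximalIdeal_iff _).mp hc)

/-- `B₀` as a lift over `k`. -/
def baseDef : RingDef B₀ (Art.base Λ k) where
  R := B₀
  str := (algebraMap k B₀ : k →+* B₀)
  flat := (RingHom.flat_algebraMap_iff.mpr (inferInstance : Module.Flat k B₀) : (algebraMap k B₀).Flat)
  π := RingHom.id B₀
  π_surjective := Function.surjective_id
  π_str _ := rfl
  ker_π := by
    rw [maximalIdeal_base, Ideal.map_bot]
    exact (RingHom.injective_iff_ker_eq_bot _).mp Function.injective_id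

variable {B₀ Λ}

/-- The closed fibre as a morphism. -/
def toBaseHom {A : Art Λ k} (D : RingDef B₀ A) : Hom (toBase A) D (baseDef Λ B₀) where
  φ := D.π
  φ_str a := D.π_str a
  π_φ _ := rfl

theorem toBaseHom_φ {A : Art Λ k} {g : A ⟶ Art.base Λ k} {D : RingDef B₀ A} (a : Hom g D (baseDef Λ B₀)) :
    a.φ = D.π := RingHom.ext a.π_φ

end Base

section Fibre

variable {B A A₁ A₂ : Art Λ k} {p₁ : B ⟶ A₁} {p₂ : B ⟶ A₂} {f₁ : A₁ ⟶ A} {f₂ : A₂ ⟶ A}
  (h : IsFibreProd p₁ p₂ f₁ f₂) (hf₂ : Function.Surjective f₂) {D₁ : RingDef B₀ A₁} {D₂ : RingDef B₀ A₂}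
  {D₀ : RingDef B₀ A} (a₁ : Hom f₁ D₁ D₀) (a₂ : Hom f₂ D₂ D₀)

/-- The ring underlying a fibre product of lifts. -/
abbrev fibreRing : Subring (D₁.R × D₂.R) :=
  (a₁.φ.comp (RingHom.fst D₁.R D₂.R)).eqLocus (a₂.φ.comp (RingHom.snd D₁.R D₂.R))

/-- Its structure map. -/
def fibreStr : B →+* fibreRing a₁ a₂ :=
  RingHom.codRestrict ((D₁.str.comp p₁.toAlgHom.toRingHom).prod (D₂.str.comp p₂.toAlgHom.toRingHom))
    (fibreRing a₁ a₂) fun b => by
      show a₁.φ (D₁.str (p₁ b)) = a₂.φ (D₂.str (p₂ b))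
      rw [a₁.φ_str, a₂.φ_str, h.w_apply]

include hf₂ in
theorem exists_fibre_basis :
    letI := (fibreStr h a₁ a₂).toAlgebra
    ∃ (ι : Type u) (b : Module.Basis ι k B₀) (β : Module.Basis ι B (fibreRing a₁ a₂)),
      ∀ i, D₁.π (β i).1.1 = b i := by
  letI := (fibreStr h a₁ a₂).toAlgebra
  letI := D₁.str.toAlgebra
  letI := D₂.str.toAlgebra
  letI := D₀.str.toAlgebra
  let b := Module.Basis.ofVectorSpace k B₀
  choose x hx using fun i => D₁.π_surjective (b i)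
  choose y hy using fun i => a₂.surjective_φ hf₂ (a₁.φ (x i))
  have hy' : ∀ i, D₂.π (y i) = b i := fun i => by
    rw [← a₂.π_φ, hy, a₁.π_φ, hx]
  let β₁ := D₁.basisLift b x hx
  let β₂ := D₂.basisLift b y hy'
  let β₀ := D₀.basisLift b (fun i => a₁.φ (x i)) fun i => (a₁.π_φ _).trans (hx i)
  let z : _ → fibreRing a₁ a₂ := fun i => ⟨(x i, y i), (hy i).symm⟩
  have hsmul : ∀ (c : B) (w : fibreRing a₁ a₂),
      (c • w).1.1 = p₁ c • w.1.1 ∧ (c • w).1.2 = p₂ c • w.1.2 := fun c w => ⟨rfl, rfl⟩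
  have hli : LinearIndependent B z := by
    rw [linearIndependent_iff']
    intro s c hc i hi
    refine h.inj _ _ ?_ ?_
    · have h1 : ∑ j ∈ s, p₁ (c j) • x j = 0 := by
        have h2 := congrArg (fun w : fibreRing a₁ a₂ => w.1.1) hc
        simp only [AddSubmonoidClass.coe_finsetSum, Prod.fst_sum, ZeroMemClass.coe_zero, Prod.fst_zero] at h2
        exact h2
      rw [linearIndependent_iff'.mp (D₁.linearIndependent_lift b x hx) s _ h1 i hi]
      exact (map_zero p₁.toAlgHom).symm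
    · have h1 : ∑ j ∈ s, p₂ (c j) • y j = 0 := by
        have h2 := congrArg (fun w : fibreRing a₁ a₂ => w.1.2) hc
        simp only [AddSubmonoidClass.coe_finsetSum, Prod.snd_sum, ZeroMemClass.coe_zero, Prod.snd_zero] at h2
        exact h2
      rw [linearIndependent_iff'.mp (D₂.linearIndependent_lift b y hy') s _ h1 i hi]
      exact (map_zero p₂.toAlgHom).symm
  refine ⟨_, b, Module.Basis.mk hli ?_, fun i => by rw [Module.Basis.mk_apply]; exact hx i⟩
  intro w _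
  classical
  let u₁ := β₁.repr w.1.1
  let u₂ := β₂.repr w.1.2
  let s := u₁.support ∪ u₂.support
  have e₁ : ∑ i ∈ s, u₁ i • x i = w.1.1 := by
    refine Eq.trans ?_ (β₁.linearCombination_repr w.1.1)
    rw [Finsupp.linearCombination_apply, Finsupp.sum_of_support_subset _ Finset.subset_union_left _ (by simp)]
    exact Finset.sum_congr rfl fun i _ => by rw [RingDef.basisLift_apply]
  have e₂ : ∑ i ∈ s, u₂ i • y i = w.1.2 := by
    refine Eq.trans ?_ (β₂.linearCombination_repr w.1.2)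
    rw [Finsupp.linearCombination_apply, Finsupp.sum_of_support_subset _ Finset.subset_union_right _ (by simp)]
    exact Finset.sum_congr rfl fun i _ => by rw [RingDef.basisLift_apply]
  have hagree : ∀ i ∈ s, f₁ (u₁ i) = f₂ (u₂ i) := by
    intro i hi
    have h1 : ∑ j ∈ s, (f₁ (u₁ j) - f₂ (u₂ j)) • a₁.φ (x j) = 0 := by
      have h2 : a₁.φ w.1.1 = a₂.φ w.1.2 := w.2
      rw [← e₁, ← e₂, map_sum, map_sum] at h2
      simp only [sub_smul, Finset.sum_sub_distrib, sub_eq_zero]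
      refine Eq.trans (Finset.sum_congr rfl fun j _ => ?_) (h2.trans (Finset.sum_congr rfl fun j _ => ?_))
      · show D₀.str (f₁ (u₁ j)) * a₁.φ (x j) = a₁.φ (D₁.str (u₁ j) * x j)
        rw [map_mul, a₁.φ_str]
      · show a₂.φ (D₂.str (u₂ j) * y j) = D₀.str (f₂ (u₂ j)) * a₁.φ (x j)
        rw [map_mul, a₂.φ_str, hy]
    exact sub_eq_zero.mp (linearIndependent_iff'.mp
      (D₀.linearIndependent_lift b _ fun j => (a₁.π_φ _).trans (hx j)) s _ h1 i hi)
  choose c hc₁ hc₂ using fun i (hi : i ∈ s) => h.surj _ _ (hagree i hi)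
  have hw : w = ∑ i ∈ s.attach, c i.1 i.2 • z i.1 := by
    refine Subtype.ext (Prod.ext ?_ ?_)
    · simp only [AddSubmonoidClass.coe_finsetSum, Prod.fst_sum]
      rw [← e₁, ← Finset.sum_attach s]
      exact Finset.sum_congr rfl fun i _ => (congrArg (· • x i.1) (hc₁ i.1 i.2)).symm
    · simp only [AddSubmonoidClass.coe_finsetSum, Prod.snd_sum]
      rw [← e₂, ← Finset.sum_attach s]
      exact Finset.sum_congr rfl fun i _ => (congrArg (· • y i.1) (hc₂ i.1 i.2)).symm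
  rw [hw]
  exact Submodule.sum_mem _ fun i _ => Submodule.smul_mem _ _ (Submodule.subset_span ⟨_, rfl⟩)

include h hf₂ in
theorem exists_fibre : ∃ (D : RingDef B₀ B) (b₁ : Hom p₁ D D₁) (b₂ : Hom p₂ D D₂),
    a₁.φ.comp b₁.φ = a₂.φ.comp b₂.φ ∧
    ∀ (E : RingDef B₀ B) (c₁ : Hom p₁ E D₁) (c₂ : Hom p₂ E D₂), a₁.φ.comp c₁.φ = a₂.φ.comp c₂.φ →
      Nonempty (E.Iso D) := by
  letI := (fibreStr h a₁ a₂).toAlgebra
  obtain ⟨ι, b, β, hβ⟩ := exists_fibre_basis h hf₂ a₁ a₂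
  haveI : Module.Free B (fibreRing a₁ a₂) := Module.Free.of_basis β
  let P : fibreRing a₁ a₂ →+* D₁.R := (RingHom.fst D₁.R D₂.R).comp (fibreRing a₁ a₂).subtype
  let Q : fibreRing a₁ a₂ →+* D₂.R := (RingHom.snd D₁.R D₂.R).comp (fibreRing a₁ a₂).subtype
  have hπQ : ∀ w, D₂.π (Q w) = D₁.π (P w) := fun w => by
    rw [← a₂.π_φ, ← a₁.π_φ]
    exact congrArg D₀.π w.2.symm
  have hπstr : ∀ c, D₁.π (P (fibreStr h a₁ a₂ c)) = algebraMap k B₀ (B.res c) := fun c =>
    (D₁.π_str _).trans (congrArg _ (res_app p₁ c))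
  let D : RingDef B₀ B :=
    { R := fibreRing a₁ a₂
      str := fibreStr h a₁ a₂
      flat := (inferInstance : Module.Flat B (fibreRing a₁ a₂))
      π := D₁.π.comp P
      π_surjective := fun v => by
        obtain ⟨r, hr⟩ := D₁.π_surjective v
        obtain ⟨r', hr'⟩ := a₂.surjective_φ hf₂ (a₁.φ r)
        exact ⟨⟨(r, r'), hr'.symm⟩, hr⟩
      π_str := hπstr
      ker_π := by
        refine le_antisymm (fun w hw => ?_) (Ideal.map_le_iff_le_comap.mpr fun c hc => ?_)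
        · have hsum := β.linearCombination_repr w
          rw [Finsupp.linearCombination_apply, Finsupp.sum] at hsum
          have h0 : ∑ i ∈ (β.repr w).support, B.res (β.repr w i) • b i = 0 := by
            have h1 := RingHom.mem_ker.mp hw
            rw [← hsum, map_sum] at h1
            refine Eq.trans (Finset.sum_congr rfl fun i _ => ?_) h1
            show _ = D₁.π (P (fibreStr h a₁ a₂ (β.repr w i) * β i))
            rw [map_mul, map_mul, hπstr, Algebra.smul_def]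
            exact congrArg (_ * ·) (hβ i).symm
          rw [← hsum]
          refine Ideal.sum_mem _ fun i hi => Ideal.mul_mem_right _ _ (Ideal.mem_map_of_mem _ ?_)
          exact (B.mem_maximalIdeal_iff _).mpr (linearIndependent_iff'.mp b.linearIndependent _ _ h0 i hi)
        · rw [Ideal.mem_comap, RingHom.mem_ker]
          show D₁.π (P (fibreStr h a₁ a₂ c)) = 0
          rw [hπstr, (B.mem_maximalIdeal_iff c).mp hc, map_zero] }
  refine ⟨D, ⟨P, fun _ => rfl, fun _ => rfl⟩, ⟨Q, fun _ => rfl, hπQ⟩, RingHom.ext fun w => w.2,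
    fun E c₁ c₂ hc => ?_⟩
  let φ : E.R →+* fibreRing a₁ a₂ :=
    RingHom.codRestrict (c₁.φ.prod c₂.φ) _ fun r => RingHom.congr_fun hc r
  exact ⟨Hom.toIso ⟨φ, fun c => Subtype.ext (Prod.ext (c₁.φ_str c) (c₂.φ_str c)), c₁.π_φ⟩⟩

end Fibre

section Conditions

local notation "F" => defFunctor (Λ := Λ) (k := k) (Spec (CommRingCat.of B₀)) (base0 B₀)

theorem cl_base (z : (F).obj (Art.base Λ k)) : z = (baseDef Λ B₀).toSch.cl := by
  obtain ⟨D, rfl⟩ := exists_cl_eq z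
  have h1 := (toBaseHom D).cl_eq
  rwa [← eq_toBase (𝟙 _), Functor.map_id_apply] at h1

theorem defFunctor_h0 : H0 (F) :=
  ⟨⟨(baseDef Λ B₀).toSch.cl⟩, ⟨fun a b => (cl_base a).trans (cl_base b).symm⟩⟩

theorem defFunctor_s1 : S1 (F) := by
  intro B A A₁ A₂ p₁ p₂ f₁ f₂ h hf₂ ⟨⟨z₁, z₂⟩, hz⟩
  obtain ⟨D₁, rfl⟩ := exists_cl_eq z₁
  obtain ⟨D₂, rfl⟩ := exists_cl_eq z₂
  obtain ⟨D₀, hD₀⟩ := exists_cl_eq ((F).map f₁ D₁.toSch.cl)
  obtain ⟨a₁⟩ := exists_hom_of_cl_eq hD₀.symm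
  obtain ⟨a₂⟩ := exists_hom_of_cl_eq (hz.symm.trans hD₀.symm)
  obtain ⟨D, b₁, b₂, -, -⟩ := exists_fibre h hf₂ a₁ a₂
  exact ⟨D.toSch.cl, Subtype.ext (Prod.ext b₁.cl_eq b₂.cl_eq)⟩

theorem defFunctor_hbar : Hbar (F) :=
  fun _ _ _ _ p' p'' f' f'' h hs => defFunctor_s1 p' p'' f' f'' h hs.1

theorem defFunctor_heps : Heps (F) := by
  intro B A' p₁ p₂ h
  refine ⟨fun z z' hz => ?_, defFunctor_s1 p₁ p₂ _ _ h (dual Λ k).res_surjective⟩
  obtain ⟨E, rfl⟩ := exists_cl_eq z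
  obtain ⟨E', rfl⟩ := exists_cl_eq z'
  obtain ⟨D₁, hD₁⟩ := exists_cl_eq ((F).map p₁ E.toSch.cl)
  obtain ⟨D₂, hD₂⟩ := exists_cl_eq ((F).map p₂ E.toSch.cl)
  obtain ⟨c₁⟩ := exists_hom_of_cl_eq hD₁.symm
  obtain ⟨c₂⟩ := exists_hom_of_cl_eq hD₂.symm
  obtain ⟨c₁'⟩ := exists_hom_of_cl_eq ((congrArg (fun t => t.1.1) hz).symm.trans hD₁.symm)
  obtain ⟨c₂'⟩ := exists_hom_of_cl_eq ((congrArg (fun t => t.1.2) hz).symm.trans hD₂.symm)
  obtain ⟨D, -, -, -, huniv⟩ := exists_fibre h (dual Λ k).res_surjective (toBaseHom D₁) (toBaseHom D₂)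
  have hc : ∀ (G : RingDef B₀ B) (u₁ : Hom p₁ G D₁) (u₂ : Hom p₂ G D₂),
      (toBaseHom D₁).φ.comp u₁.φ = (toBaseHom D₂).φ.comp u₂.φ :=
    fun G u₁ u₂ => RingHom.ext fun r => (u₁.π_φ r).trans (u₂.π_φ r).symm
  obtain ⟨e⟩ := huniv E c₁ c₂ (hc _ _ _)
  obtain ⟨e'⟩ := huniv E' c₁' c₂' (hc _ _ _)
  exact Quotient.sound ⟨(e.toSch).trans e'.toSch.symm⟩

end Conditions

end Groth.Agent.DefSchLib
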