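import Mathlib
import Groth.Agent.CotTLib.Exal
import Groth.Agent.DefSchLib.Fibre

/-! Extensions of a deformation of an affine scheme along a small extension, in terms of `T¹`. -/

set_option autoImplicit false

noncomputable section

universe u

open CategoryTheory CategoryTheory.Limits AlgebraicGeometry IsLocalRing
open scoped TensorProduct

namespace Groth.Agent.DefSchLib

open ArtFun ArtFun.Art

variable {k : Type u} [Field k] {B₀ : Type u} [CommRing B₀] [Algebra k B₀]
  {C' C : Art k k} {p : C' ⟶ C}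

/-- The hypothesis used throughout: the kernel is killed by the maximal ideal. -/
abbrev KilledKer (p : C' ⟶ C) : Prop :=
  ∀ a ∈ maximalIdeal C', ∀ j ∈ RingHom.ker p.toAlgHom, a * j = 0

/-- A polynomial lift of an element. -/
theorem res_eq (a : C') : ((C'.res : C' →+* k) a) = C'.res a := rfl

section Mu

variable (hp : KilledKer p) (D' : RingDef B₀ C')

include hp in
theorem str_mul_eq {j : C'} (hj : j ∈ RingHom.ker p.toAlgHom) {r r' : D'.R} (h : D'.π r = D'.π r') :
    D'.str j * r = D'.str j * r' := by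
  have h1 : r - r' ∈ (maximalIdeal C').map D'.str := by
    rw [← D'.ker_π, RingHom.mem_ker, map_sub, h, sub_self]
  rw [← sub_eq_zero, ← mul_sub]
  generalize r - r' = y at h1
  induction h1 using Submodule.span_induction with
  | mem y hy =>
    obtain ⟨a, ha, rfl⟩ := hy
    rw [← map_mul, mul_comm, hp a ha j hj, map_zero]
  | zero => rw [mul_zero]
  | add y y' _ _ hy hy' => rw [mul_add, hy, hy', add_zero]
  | smul c y _ hy => rw [smul_eq_mul, mul_left_comm, hy, mul_zero]

/-- Multiplication `B₀ ⊗ J → D'`. -/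
def mu : B₀ ⊗[k] ↥(RingHom.ker p.toAlgHom) →+ D'.R :=
  TensorProduct.liftAddHom
    (AddMonoidHom.mk' (fun v => AddMonoidHom.mk' (fun j => D'.str (j : C') * Function.surjInv D'.π_surjective v)
        (fun j j' => by rw [Submodule.coe_add, map_add, add_mul]))
      (fun v v' => by
        ext j
        show D'.str (j : C') * _ = D'.str (j : C') * _ + D'.str (j : C') * _
        rw [← mul_add]
        refine str_mul_eq hp D' j.2 ?_
        rw [map_add, Function.surjInv_eq D'.π_surjective, Function.surjInv_eq D'.π_surjective,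
          Function.surjInv_eq D'.π_surjective]))
    (fun c v j => by
      show D'.str (j : C') * Function.surjInv D'.π_surjective (c • v) =
        D'.str ((c • j : ↥(RingHom.ker p.toAlgHom)) : C') * Function.surjInv D'.π_surjective v
      rw [show ((c • j : ↥(RingHom.ker p.toAlgHom)) : C') = (j : C') * algebraMap k C' c by
        rw [Submodule.coe_smul_of_tower, Algebra.smul_def, mul_comm], map_mul, mul_assoc]
      refine str_mul_eq hp D' j.2 ?_
      rw [map_mul, D'.π_str, Function.surjInv_eq D'.π_surjective, Function.surjInv_eq D'.π_surjective,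
        C'.res.commutes, Algebra.smul_def]
      rfl)

theorem mu_tmul (r : D'.R) (j : ↥(RingHom.ker p.toAlgHom)) :
    mu hp D' (D'.π r ⊗ₜ j) = D'.str (j : C') * r :=
  str_mul_eq hp D' j.2 (Function.surjInv_eq D'.π_surjective _)

theorem mul_mu (r : D'.R) (a : B₀ ⊗[k] ↥(RingHom.ker p.toAlgHom)) :
    r * mu hp D' a = mu hp D' (D'.π r • a) := by
  induction a with
  | zero => rw [map_zero, mul_zero, smul_zero, map_zero]
  | tmul v j =>
    obtain ⟨s, rfl⟩ := D'.π_surjective v
    rw [mu_tmul, TensorProduct.smul_tmul', smul_eq_mul, ← map_mul D'.π, mu_tmul]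
    ring
  | add a a' ha ha' => rw [map_add, mul_add, ha, ha', smul_add, map_add]

theorem mem_ker_iff {D : RingDef B₀ C} (h : Hom p D' D) (hs : Function.Surjective p) (x : D'.R) :
    h.φ x = 0 ↔ ∃ a, mu hp D' a = x := by
  constructor
  · intro hx
    have h1 : x ∈ (RingHom.ker p.toAlgHom).map D'.str := h.ker_φ hs ▸ RingHom.mem_ker.mpr hx
    induction h1 using Submodule.span_induction with
    | mem y hy =>
      obtain ⟨j, hj, rfl⟩ := hy
      exact ⟨D'.π 1 ⊗ₜ ⟨j, hj⟩, (mu_tmul hp D' 1 ⟨j, hj⟩).trans (mul_one _)⟩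
    | zero => exact ⟨0, map_zero _⟩
    | add y y' hy₁ hy₂ hy hy' =>
      have key : ∀ z ∈ (RingHom.ker p.toAlgHom).map D'.str, h.φ z = 0 := fun z hz =>
        RingHom.mem_ker.mp (h.ker_φ hs ▸ hz)
      obtain ⟨a, ha⟩ := hy (key _ hy₁)
      obtain ⟨a', ha'⟩ := hy' (key _ hy₂)
      exact ⟨a + a', by rw [map_add, ha, ha']⟩
    | smul c y hy₁ hy =>
      obtain ⟨a, ha⟩ := hy (RingHom.mem_ker.mp (h.ker_φ hs ▸ hy₁))
      exact ⟨D'.π c • a, by rw [← mul_mu, ha, smul_eq_mul]⟩
  · rintro ⟨a, rfl⟩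
    induction a with
    | zero => rw [map_zero, map_zero]
    | tmul v j =>
      obtain ⟨s, rfl⟩ := D'.π_surjective v
      rw [mu_tmul, map_mul, h.φ_str, show p (j : C') = 0 from RingHom.mem_ker.mp j.2, map_zero, zero_mul]
    | add a a' ha ha' => rw [map_add, map_add, ha, ha', add_zero]

theorem mu_injective : Function.Injective (mu hp D') := by
  rw [injective_iff_map_eq_zero]
  intro a ha
  let b := Module.Basis.ofVectorSpace k B₀
  obtain ⟨c, rfl⟩ := TensorProduct.eq_repr_basis_left b a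
  choose y hy using fun i => D'.π_surjective (b i)
  letI := D'.str.toAlgebra
  have h1 : ∑ i ∈ c.support, ((c i : ↥(RingHom.ker p.toAlgHom)) : C') • y i = 0 := by
    rw [← ha, Finsupp.sum, map_sum]
    refine Finset.sum_congr rfl fun i _ => ?_
    rw [← hy i, mu_tmul]
    rfl
  have h2 : c = 0 := Finsupp.ext fun i => by
    by_cases hi : i ∈ c.support
    · exact Subtype.ext (linearIndependent_iff'.mp (D'.linearIndependent_lift b y hy) _ _ h1 i hi)
    · exact Finsupp.notMem_support_iff.mp hi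
  rw [h2, Finsupp.sum_zero_index]

end Mu

/-- A lift from a basis. -/
def RingDef.ofBasis {A : Art k k} {R : Type u} [CommRing R] (str : A →+* R) (π : R →+* B₀)
    (hπ : ∀ a, π (str a) = algebraMap k B₀ (A.res a)) {ι : Type u} (b : Module.Basis ι k B₀) (y : ι → R)
    (hy : ∀ i, π (y i) = b i)
    (hli : ∀ c : ι →₀ A, (c.sum fun i a => str a * y i) = 0 → c = 0)
    (hsp : ∀ r, ∃ c : ι →₀ A, (c.sum fun i a => str a * y i) = r) : RingDef B₀ A where
  R := R
  str := str
  flat := by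
    letI := str.toAlgebra
    show Module.Flat A R
    haveI : Module.Free A R := Module.Free.of_basis (Module.Basis.mk (R := A) (v := y)
      (linearIndependent_iff.mpr fun c hc => hli c (by rw [Finsupp.linearCombination_apply] at hc; exact hc))
      (fun r _ => by
        obtain ⟨c, hc⟩ := hsp r
        exact Finsupp.mem_span_range_iff_exists_finsupp.mpr ⟨c, hc⟩))
    infer_instance
  π := π
  π_surjective v := ⟨(b.repr v).sum fun i a => str (algebraMap k A a) * y i, by
    rw [map_finsuppSum]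
    refine Eq.trans (Finset.sum_congr rfl fun i _ => ?_) (b.linearCombination_repr v)
    show π (_ * _) = b.repr v i • b i
    rw [map_mul, hπ, hy, A.res.commutes, Algebra.smul_def]
    rfl⟩
  π_str := hπ
  ker_π := by
    refine le_antisymm (fun r hr => ?_) (Ideal.map_le_iff_le_comap.mpr fun a ha => ?_)
    · obtain ⟨c, rfl⟩ := hsp r
      rw [RingHom.mem_ker, map_finsuppSum] at hr
      have h0 : ∑ i ∈ c.support, A.res (c i) • b i = 0 := by
        refine Eq.trans (Finset.sum_congr rfl fun i _ => ?_) hr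
        show _ = π (str (c i) * y i)
        rw [map_mul, hπ, hy, Algebra.smul_def]
      exact Ideal.sum_mem _ fun i hi => Ideal.mul_mem_right _ _ (Ideal.mem_map_of_mem _
        ((A.mem_maximalIdeal_iff _).mpr (linearIndependent_iff'.mp b.linearIndependent _ _ h0 i hi)))
    · rw [Ideal.mem_comap, RingHom.mem_ker, hπ, (A.mem_maximalIdeal_iff _).mp ha, map_zero]

section Cover

variable (D : RingDef B₀ C) (x : B₀ → D.R)

/-- The polynomial ring covering all lifts. -/
abbrev Cov (B₀ : Type u) (C' : Art k k) : Type u := MvPolynomial B₀ C'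

variable (p) in
/-- The map to the given lift. -/
def evD : Cov B₀ C' →+* D.R := MvPolynomial.eval₂Hom (D.str.comp p.toAlgHom.toRingHom) x

/-- The presentation of `B₀` by all its elements. -/
abbrev canP (k : Type u) [Field k] (B₀ : Type u) [CommRing B₀] [Algebra k B₀] := CotT.canon k B₀

variable (B₀ C') in
/-- Reduction to the polynomial ring over the field. -/
def red : Cov B₀ C' →+* (canP k B₀).toExtension.Ring := MvPolynomial.map (C'.res : C' →+* k)

variable (B₀ C') in
/-- Reduction to `B₀`. -/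
def redB : Cov B₀ C' →+* B₀ := (algebraMap (canP k B₀).toExtension.Ring B₀).comp (red B₀ C')

theorem red_surjective : Function.Surjective (red B₀ C') :=
  MvPolynomial.map_surjective _ C'.res_surjective

theorem redB_C (a : C') : redB B₀ C' (MvPolynomial.C a) = algebraMap k B₀ (C'.res a) := by
  show algebraMap (canP k B₀).toExtension.Ring B₀ (MvPolynomial.map _ (MvPolynomial.C a)) = _
  rw [MvPolynomial.map_C]
  exact (IsScalarTower.algebraMap_apply k (canP k B₀).toExtension.Ring B₀ _).symm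

theorem redB_X (v : B₀) : redB B₀ C' (MvPolynomial.X v) = v := by
  show algebraMap (canP k B₀).toExtension.Ring B₀ (MvPolynomial.map _ (MvPolynomial.X v)) = _
  rw [MvPolynomial.map_X]
  exact MvPolynomial.aeval_X _ v

variable (hx : ∀ v, D.π (x v) = v)

include hx in
theorem π_evD (w : Cov B₀ C') : D.π (evD p D x w) = redB B₀ C' w := by
  have h : D.π.comp (evD p D x) = redB B₀ C' := MvPolynomial.ringHom_ext (fun a => by
      rw [redB_C]
      show D.π (evD p D x (MvPolynomial.C a)) = _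
      rw [evD, MvPolynomial.eval₂Hom_C]
      exact (D.π_str _).trans (congrArg _ (res_app p a))) (fun v => by
      rw [redB_X]
      show D.π (evD p D x (MvPolynomial.X v)) = _
      rw [evD, MvPolynomial.eval₂Hom_X', hx])
  exact RingHom.congr_fun h w

/-- An extension of `D` with compatible lifts of all elements. -/
structure Lifted : Type (u + 1) where
  D' : RingDef B₀ C'
  h : Hom p D' D
  ev : Cov B₀ C' →+* D'.R
  ev_C : ∀ a, ev (MvPolynomial.C a) = D'.str a
  h_ev : ∀ w, h.φ (ev w) = evD p D x w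

variable {D x}

include hx in
theorem Lifted.π_ev (L : Lifted (p := p) D x) (w : Cov B₀ C') : L.D'.π (L.ev w) = redB B₀ C' w := by
  rw [← L.h.π_φ, L.h_ev, π_evD D x hx]

theorem exists_lifted (hs : Function.Surjective p) {D' : RingDef B₀ C'} (h : Hom p D' D) :
    ∃ L : Lifted (p := p) D x, ∃ e : L.D' = D', e ▸ L.h = h := by
  choose y hy using fun v => h.surjective_φ hs (x v)
  refine ⟨⟨D', h, MvPolynomial.eval₂Hom D'.str y, fun a => MvPolynomial.eval₂Hom_C _ _ a, fun w => ?_⟩, rfl, rfl⟩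
  have h1 : h.φ.comp (MvPolynomial.eval₂Hom D'.str y) = evD p D x := MvPolynomial.ringHom_ext (fun a => by
      show h.φ (MvPolynomial.eval₂Hom D'.str y (MvPolynomial.C a)) = evD p D x (MvPolynomial.C a)
      rw [evD, MvPolynomial.eval₂Hom_C, MvPolynomial.eval₂Hom_C, h.φ_str]
      rfl) (fun v => by
      show h.φ (MvPolynomial.eval₂Hom D'.str y (MvPolynomial.X v)) = evD p D x (MvPolynomial.X v)
      rw [evD, MvPolynomial.eval₂Hom_X', MvPolynomial.eval₂Hom_X', hy])
  exact RingHom.congr_fun h1 w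

variable (hp : KilledKer p) (hs : Function.Surjective p)

variable (B₀ C') in
/-- The index of the chosen basis of `B₀`. -/
abbrev BI (k : Type u) [Field k] (B₀ : Type u) [CommRing B₀] [Algebra k B₀] : Type u :=
  Module.Basis.ofVectorSpaceIndex k B₀

/-- Combinations of the variables indexed by a basis. -/
def lcP (c : BI k B₀ →₀ C') : Cov B₀ C' :=
  c.sum fun i a => MvPolynomial.C a * MvPolynomial.X (Module.Basis.ofVectorSpace k B₀ i)

theorem lcP_add (c c' : BI k B₀ →₀ C') : lcP (c + c') = lcP c + lcP c' :=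
  Finsupp.sum_add_index' (fun i => by rw [map_zero, zero_mul]) (fun i a a' => by rw [map_add, add_mul])

theorem C_mul_lcP (a : C') (c : BI k B₀ →₀ C') : MvPolynomial.C a * lcP c = lcP (a • c) := by
  rw [lcP, lcP, Finsupp.sum_smul_index (fun i => by rw [map_zero, zero_mul]), Finsupp.mul_sum]
  exact Finset.sum_congr rfl fun i _ => by
    show _ = MvPolynomial.C (a * c i) * _
    rw [map_mul, mul_assoc]

include hx in
theorem Lifted.lcP_injective (L : Lifted (p := p) D x) {c : BI k B₀ →₀ C'} (h : L.ev (lcP c) = 0) : c = 0 := by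
  letI := L.D'.str.toAlgebra
  let b := Module.Basis.ofVectorSpace k B₀
  refine Finsupp.ext fun i => ?_
  by_cases hi : i ∈ c.support
  · refine linearIndependent_iff'.mp (L.D'.linearIndependent_lift b (fun i => L.ev (MvPolynomial.X (b i)))
      (fun i => by rw [L.π_ev hx, redB_X])) c.support (fun i => c i) ?_ i hi
    rw [← h, lcP, map_finsuppSum]
    exact Finset.sum_congr rfl fun i _ => by
      show L.D'.str (c i) * _ = L.ev (MvPolynomial.C (c i) * _)
      rw [map_mul, L.ev_C]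
  · exact Finsupp.notMem_support_iff.mp hi

include hx in
theorem evD_lcP_eq_zero {c : BI k B₀ →₀ C'} (h : evD p D x (lcP c) = 0) (i : BI k B₀) :
    c i ∈ RingHom.ker p.toAlgHom := by
  letI := D.str.toAlgebra
  let b := Module.Basis.ofVectorSpace k B₀
  by_cases hi : i ∈ c.support
  · refine linearIndependent_iff'.mp (D.linearIndependent_lift b (fun i => x (b i)) (fun i => hx _))
      c.support (fun i => p (c i)) ?_ i hi
    rw [← h, lcP, map_finsuppSum]
    refine Finset.sum_congr rfl fun i _ => ?_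
    show D.str (p (c i)) * x (b i) = evD p D x (MvPolynomial.C (c i) * MvPolynomial.X (b i))
    rw [map_mul, evD, MvPolynomial.eval₂Hom_C, MvPolynomial.eval₂Hom_X']
    rfl
  · rw [Finsupp.notMem_support_iff.mp hi]; exact zero_mem _

include hx hs in
theorem exists_decomp (r : Cov B₀ C') : ∃ c : BI k B₀ →₀ C', evD p D x (r - lcP c) = 0 := by
  classical
  letI := D.str.toAlgebra
  let b := Module.Basis.ofVectorSpace k B₀
  obtain ⟨d, hd⟩ := Finsupp.mem_span_range_iff_exists_finsupp.mp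
    ((D.span_lift b (fun i => x (b i)) (fun i => hx _)).ge (Submodule.mem_top (x := evD p D x r)))
  choose d' hd' using fun i => hs (d i)
  refine ⟨Finsupp.onFinset d.support (fun i => if i ∈ d.support then d' i else 0)
    (fun i hi => by by_contra hn; exact hi (if_neg hn)), ?_⟩
  rw [map_sub, sub_eq_zero, lcP, Finsupp.onFinset_sum _ (fun i => by rw [map_zero, zero_mul]), map_sum, ← hd]
  refine Finset.sum_congr rfl fun i hi => ?_
  rw [if_pos hi, map_mul, evD, MvPolynomial.eval₂Hom_C, MvPolynomial.eval₂Hom_X']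
  show _ = D.str (p (d' i)) * x (b i)
  rw [hd']
  rfl

include hx in
theorem exists_jlift (a : B₀ ⊗[k] ↥(RingHom.ker p.toAlgHom)) :
    ∃ c : BI k B₀ →₀ C', red B₀ C' (lcP c) = 0 ∧ ∀ L : Lifted (p := p) D x, L.ev (lcP c) = mu hp L.D' a := by
  obtain ⟨c, rfl⟩ := TensorProduct.eq_repr_basis_left (Module.Basis.ofVectorSpace k B₀) a
  refine ⟨c.mapRange Subtype.val rfl, ?_, fun L => ?_⟩ <;>
    rw [lcP, Finsupp.sum_mapRange_index (fun i => by rw [map_zero, zero_mul])]
  · rw [map_finsuppSum]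
    refine Finset.sum_eq_zero fun i _ => ?_
    show MvPolynomial.map _ (MvPolynomial.C (c i : C') * _) = 0
    rw [map_mul, MvPolynomial.map_C, res_eq, ← res_app p (c i : C'), show p (c i : C') = 0 from RingHom.mem_ker.mp (c i).2,
      map_zero, map_zero, zero_mul]
  · rw [Finsupp.sum, Finsupp.sum, map_sum, map_sum]
    refine Finset.sum_congr rfl fun i _ => ?_
    rw [map_mul, L.ev_C, ← mu_tmul hp, L.π_ev hx, redB_X]

variable (L₀ : Lifted (p := p) D x)
variable (φ : (canP k B₀).toExtension.Cotangent →ₗ[B₀] B₀ ⊗[k] ↥(RingHom.ker p.toAlgHom))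

include hx in
theorem red_mem_ker {w : Cov B₀ C'} (hw : evD p D x w = 0) : red B₀ C' w ∈ (canP k B₀).toExtension.ker :=
  (π_evD D x hx w).symm.trans (by rw [hw, map_zero])

/-- The defining ideal of the extension attached to `φ`. -/
def kIdeal : Ideal (Cov B₀ C') where
  carrier := {w | ∃ hw : evD p D x w = 0,
    L₀.ev w = mu hp L₀.D' (φ (Algebra.Extension.Cotangent.mk ⟨red B₀ C' w, red_mem_ker hx hw⟩))}
  zero_mem' := ⟨map_zero _, by
    rw [map_zero, show (⟨red B₀ C' 0, _⟩ : (canP k B₀).toExtension.ker) = 0 from Subtype.ext (map_zero _), map_zero,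
      map_zero, map_zero]⟩
  add_mem' := by
    rintro w w' ⟨hw, e⟩ ⟨hw', e'⟩
    refine ⟨by rw [map_add, hw, hw', add_zero], ?_⟩
    rw [map_add, e, e', ← map_add, ← map_add, ← map_add]
    exact congrArg (fun z => mu hp L₀.D' (φ (Algebra.Extension.Cotangent.mk z))) (Subtype.ext (map_add _ _ _).symm)
  smul_mem' := by
    rintro r w ⟨hw, e⟩
    refine ⟨(map_mul _ r w).trans (by rw [hw, mul_zero]), ?_⟩
    refine (map_mul L₀.ev r w).trans ?_
    rw [e, mul_mu, L₀.π_ev hx]
    show mu hp L₀.D' (algebraMap (canP k B₀).toExtension.Ring B₀ (red B₀ C' r) • _) = _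
    rw [← CotTLib.cot_smul]
    exact congrArg (fun z => mu hp L₀.D' (φ (Algebra.Extension.Cotangent.mk z))) (Subtype.ext (map_mul _ _ _).symm)

include hx hs in
theorem mem_kIdeal_or_adjust (w : Cov B₀ C') (hw : evD p D x w = 0) :
    ∃ c : BI k B₀ →₀ C', red B₀ C' (lcP c) = 0 ∧ w - lcP c ∈ kIdeal hx hp L₀ φ := by
  obtain ⟨a, ha⟩ := (mem_ker_iff hp L₀.D' L₀.h hs (L₀.ev w)).mp (by rw [L₀.h_ev, hw])
  obtain ⟨c, hc, hc'⟩ := exists_jlift hx hp
    (a - φ (Algebra.Extension.Cotangent.mk ⟨red B₀ C' w, red_mem_ker hx hw⟩))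
  have hcD : evD p D x (lcP c) = 0 := by
    rw [← L₀.h_ev, hc']
    exact (mem_ker_iff hp L₀.D' L₀.h hs _).mpr ⟨_, rfl⟩
  refine ⟨c, hc, by rw [map_sub, hw, hcD, sub_zero], ?_⟩
  rw [map_sub, hc', map_sub, ha, sub_sub_cancel]
  exact congrArg (fun z => mu hp L₀.D' (φ (Algebra.Extension.Cotangent.mk z)))
    (Subtype.ext ((map_sub (red B₀ C') w (lcP c)).trans (by rw [hc, sub_zero])).symm)

theorem res_ker {j : C'} (hj : j ∈ RingHom.ker p.toAlgHom) : C'.res j = 0 := by
  rw [← res_app p j, show p j = 0 from RingHom.mem_ker.mp hj, map_zero]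

include hx hs in
theorem exists_phi :
    ∃ L : Lifted (p := p) D x, Function.Surjective L.ev ∧ RingHom.ker L.ev = kIdeal hx hp L₀ φ := by
  let K := kIdeal hx hp L₀ φ
  let b := Module.Basis.ofVectorSpace k B₀
  let str : C' →+* Cov B₀ C' ⧸ K := (Ideal.Quotient.mk K).comp MvPolynomial.C
  let y : BI k B₀ → Cov B₀ C' ⧸ K := fun i => Ideal.Quotient.mk K (MvPolynomial.X (b i))
  have hKev : K ≤ RingHom.ker (evD p D x) := fun w hw => hw.1
  have hKπ : K ≤ RingHom.ker (redB B₀ C') := fun w hw => by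
    rw [RingHom.mem_ker, ← π_evD D x hx, show evD p D x w = 0 from hw.1, map_zero]
  have hsum : ∀ c : BI k B₀ →₀ C', (c.sum fun i a => str a * y i) = Ideal.Quotient.mk K (lcP c) := fun c => by
    rw [lcP, map_finsuppSum]
    exact Finset.sum_congr rfl fun i _ => by
      show str (c i) * y i = Ideal.Quotient.mk K (MvPolynomial.C (c i) * MvPolynomial.X (b i))
      rw [map_mul]
      rfl
  have hli : ∀ c : BI k B₀ →₀ C', (c.sum fun i a => str a * y i) = 0 → c = 0 := by
    intro c hc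
    rw [hsum, Ideal.Quotient.eq_zero_iff_mem] at hc
    obtain ⟨hw, he⟩ := hc
    have h2 : red B₀ C' (lcP c) = 0 := by
      rw [lcP, map_finsuppSum]
      refine Finset.sum_eq_zero fun i _ => ?_
      show MvPolynomial.map _ (MvPolynomial.C (c i) * _) = 0
      rw [map_mul, MvPolynomial.map_C, res_eq, res_ker (evD_lcP_eq_zero hx hw i), map_zero, zero_mul]
    rw [show (⟨red B₀ C' (lcP c), _⟩ : (canP k B₀).toExtension.ker) = 0 from Subtype.ext h2, map_zero, map_zero,
      map_zero] at he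
    exact L₀.lcP_injective hx he
  have hsp : ∀ r, ∃ c : BI k B₀ →₀ C', (c.sum fun i a => str a * y i) = r := by
    intro r
    obtain ⟨w, rfl⟩ := Ideal.Quotient.mk_surjective r
    obtain ⟨c, hc⟩ := exists_decomp hx hs w
    obtain ⟨d, -, hd⟩ := mem_kIdeal_or_adjust hx hp hs L₀ φ _ hc
    refine ⟨c + d, ?_⟩
    rw [hsum, eq_comm, Ideal.Quotient.eq, lcP_add, ← sub_sub]
    exact hd
  let D' : RingDef B₀ C' := RingDef.ofBasis str (Ideal.Quotient.lift K (redB B₀ C') hKπ) redB_C b y
    (fun i => redB_X _) hli hsp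
  let h : Hom p D' D :=
    { φ := Ideal.Quotient.lift K (evD p D x) hKev
      φ_str := fun a => MvPolynomial.eval₂Hom_C _ _ a
      π_φ := fun r => by
        obtain ⟨w, hw⟩ := Ideal.Quotient.mk_surjective (I := K) r
        rw [← hw]
        exact π_evD D x hx w }
  exact ⟨⟨D', h, Ideal.Quotient.mk K, fun a => rfl, fun w => rfl⟩, Ideal.Quotient.mk_surjective, Ideal.mk_ker⟩

/-- The extension attached to `φ`. -/
def phiLift : Lifted (p := p) D x := (exists_phi hx hp hs L₀ φ).choose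

theorem phiLift_surjective : Function.Surjective (phiLift hx hp hs L₀ φ).ev :=
  (exists_phi hx hp hs L₀ φ).choose_spec.1

theorem ker_phiLift : RingHom.ker (phiLift hx hp hs L₀ φ).ev = kIdeal hx hp L₀ φ :=
  (exists_phi hx hp hs L₀ φ).choose_spec.2

/-- Compatible morphisms between extensions. -/
def Rel {D : RingDef B₀ C} {D₁ D₂ : RingDef B₀ C'} (h₁ : Hom p D₁ D) (h₂ : Hom p D₂ D) : Prop :=
  ∃ e : D₁.Iso D₂, ∀ r, h₂.φ (e.e r) = h₁.φ r

include hx hp hs in
/-- What vanishes in the reference and reduces to zero vanishes in every extension. -/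
theorem ev_eq_zero (L : Lifted (p := p) D x) {z : Cov B₀ C'} (hz : red B₀ C' z = 0) (hz₀ : L₀.ev z = 0) :
    L.ev z = 0 := by
  have h1 : z ∈ (maximalIdeal C').map (MvPolynomial.C : C' →+* Cov B₀ C') := by
    rw [← RingDef.ker_res, ← MvPolynomial.ker_map]; exact hz
  suffices key : ∀ r : Cov B₀ C', ∃ c : BI k B₀ →₀ C', ∀ M : Lifted (p := p) D x, M.ev (r * z) = M.ev (lcP c) by
    obtain ⟨c, hc⟩ := key 1
    have hc0 : c = 0 := L₀.lcP_injective hx (by rw [← hc L₀, one_mul, hz₀])
    rw [← one_mul z, hc L, hc0, lcP, Finsupp.sum_zero_index, map_zero]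
  clear hz hz₀
  induction h1 using Submodule.span_induction with
  | mem z hz =>
    obtain ⟨a, ha, rfl⟩ := hz
    intro r
    obtain ⟨c, hc⟩ := exists_decomp hx hs r
    refine ⟨a • c, fun M => ?_⟩
    obtain ⟨d, hd⟩ := (mem_ker_iff hp M.D' M.h hs (M.ev (r - lcP c))).mp (by rw [M.h_ev, hc])
    rw [← C_mul_lcP, mul_comm r, ← sub_eq_zero, ← map_sub, ← mul_sub, map_mul, M.ev_C, ← hd, mul_mu, M.D'.π_str,
      (C'.mem_maximalIdeal_iff a).mp ha, map_zero, zero_smul, map_zero]
  | zero => intro r; exact ⟨0, fun M => by rw [mul_zero, lcP, Finsupp.sum_zero_index]⟩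
  | add z z' _ _ hz hz' =>
    intro r
    obtain ⟨c, h1⟩ := hz r
    obtain ⟨c', h2⟩ := hz' r
    exact ⟨c + c', fun M => by rw [mul_add, lcP_add, map_add, map_add, h1, h2]⟩
  | smul s z _ hz =>
    intro r
    obtain ⟨c, hc⟩ := hz (r * s)
    exact ⟨c, fun M => by rw [smul_eq_mul, ← mul_assoc]; exact hc M⟩

include hx hp hs in
theorem exists_zero_lift (f : (canP k B₀).toExtension.ker) :
    ∃ w : Cov B₀ C', red B₀ C' w = (f : (canP k B₀).toExtension.Ring) ∧ w ∈ kIdeal hx hp L₀ φ := by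
  obtain ⟨w', hw'⟩ := red_surjective (C' := C') (f : (canP k B₀).toExtension.Ring)
  let L := phiLift hx hp hs L₀ φ
  have h0 : L.D'.π (L.ev w') = 0 := by
    rw [L.π_ev hx]
    show algebraMap (canP k B₀).toExtension.Ring B₀ (red B₀ C' w') = 0
    rw [hw']
    exact f.2
  have h1 : L.ev w' ∈ (maximalIdeal C').map (L.ev.comp MvPolynomial.C) := by
    rw [show L.ev.comp MvPolynomial.C = L.D'.str from RingHom.ext L.ev_C, ← L.D'.ker_π]
    exact RingHom.mem_ker.mpr h0
  rw [← Ideal.map_map] at h1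
  obtain ⟨z, hz, he⟩ := (Ideal.mem_map_iff_of_surjective _ (phiLift_surjective hx hp hs L₀ φ)).mp h1
  rw [← RingDef.ker_res, ← MvPolynomial.ker_map] at hz
  refine ⟨w' - z, by rw [map_sub, hw', show red B₀ C' z = 0 from hz, sub_zero], ?_⟩
  rw [← ker_phiLift hx hp hs L₀ φ, RingHom.mem_ker, map_sub, sub_eq_zero]
  exact he.symm

include hx hs in
/-- An extension with lifts is one of the `φ`. -/
theorem exists_rel_phiLift (L : Lifted (p := p) D x) :
    ∃ φ, Rel (phiLift hx hp hs L₀ φ).h L.h := by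
  choose w hw hwK using exists_zero_lift hx hp hs L₀ 0
  have hD : ∀ f, evD p D x (w f) = 0 := fun f => (hwK f).1
  have h0 : ∀ f, L₀.ev (w f) = 0 := fun f => by
    obtain ⟨_, e⟩ := hwK f
    rw [e, LinearMap.zero_apply, map_zero]
  choose g hg using fun f => (mem_ker_iff hp L.D' L.h hs (L.ev (w f))).mp (by rw [L.h_ev, hD])
  have huniq : ∀ (f : (canP k B₀).toExtension.ker) (v : Cov B₀ C'),
      red B₀ C' v = (f : (canP k B₀).toExtension.Ring) → L₀.ev v = 0 → L.ev v = mu hp L.D' (g f) := fun f v hv hv₀ => by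
    rw [hg, ← sub_eq_zero, ← map_sub]
    exact ev_eq_zero hx hp hs L₀ L (by rw [map_sub, hv, hw, sub_self]) (by rw [map_sub, hv₀, h0, sub_self])
  have gadd : ∀ f f', g (f + f') = g f + g f' := fun f f' => mu_injective hp L.D' (by
    rw [← huniq (f + f') (w f + w f') (by rw [map_add, hw, hw, Submodule.coe_add]) (by rw [map_add, h0, h0, add_zero]),
      map_add, map_add, hg, hg])
  have gsmul : ∀ (r : (canP k B₀).toExtension.Ring) f,
      g (r • f) = algebraMap (canP k B₀).toExtension.Ring B₀ r • g f := fun r f => by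
    obtain ⟨v, rfl⟩ := red_surjective (C' := C') r
    refine mu_injective hp L.D' ?_
    rw [← huniq (red B₀ C' v • f) (v * w f) (by rw [map_mul, hw]; rfl) (by rw [map_mul, h0, mul_zero]), map_mul,
      ← hg, mul_mu, L.π_ev hx]
    rfl
  let g' : (canP k B₀).toExtension.ker →ₗ[(canP k B₀).toExtension.Ring] (B₀ ⊗[k] ↥(RingHom.ker p.toAlgHom)) :=
    { toFun := g
      map_add' := gadd
      map_smul' := fun r f => (gsmul r f).trans (IsScalarTower.algebraMap_smul B₀ r (g f)) }
  have hker : ∀ z ∈ ((canP k B₀).toExtension.ker • ⊤ : Submodule (canP k B₀).toExtension.Ring (canP k B₀).toExtension.ker),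
      g z = 0 := by
    intro z hz
    induction hz using Submodule.smul_induction_on' with
    | smul r hr f _ => rw [gsmul, show algebraMap (canP k B₀).toExtension.Ring B₀ r = 0 from hr, zero_smul]
    | add a _ b _ ha hb => rw [gadd, ha, hb, add_zero]
  let ψ : (canP k B₀).toExtension.Cotangent →ₗ[B₀] (B₀ ⊗[k] ↥(RingHom.ker p.toAlgHom)) :=
    ((Submodule.liftQ _ g' (fun z hz => hker z hz)).comp
      (Algebra.Extension.cotangentEquivCotangentKer (P := (canP k B₀).toExtension)).toLinearMap).extendScalarsOfSurjective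
        (CotTLib.surjective_algebraMap (canP k B₀))
  have hψ : ∀ f, ψ (Algebra.Extension.Cotangent.mk f) = g f := fun f => rfl
  refine ⟨-ψ, ?_⟩
  let Lφ := phiLift hx hp hs L₀ (-ψ)
  have hle : RingHom.ker Lφ.ev ≤ RingHom.ker L.ev := by
    rw [ker_phiLift]
    intro v hv
    obtain ⟨hvD, hv₀⟩ := hv
    rw [LinearMap.neg_apply, hψ] at hv₀
    set f : (canP k B₀).toExtension.ker := ⟨red B₀ C' v, red_mem_ker hx hvD⟩
    obtain ⟨c, hc, hc'⟩ := exists_jlift hx hp (g f)
    rw [RingHom.mem_ker]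
    have h1 := huniq f (v + lcP c) (by rw [map_add, hc, add_zero]) (by
      rw [map_add, hc', hv₀, map_neg, neg_add_cancel])
    rw [map_add, hc'] at h1
    exact add_eq_right.mp h1
  let e : Lφ.D'.R →+* L.D'.R := RingHom.liftOfSurjective Lφ.ev (phiLift_surjective hx hp hs L₀ (-ψ)) ⟨L.ev, hle⟩
  have he : ∀ v, e (Lφ.ev v) = L.ev v := fun v =>
    RingHom.liftOfRightInverse_comp_apply Lφ.ev _ (Function.surjInv_eq (phiLift_surjective hx hp hs L₀ (-ψ))) ⟨L.ev, hle⟩ v
  let H : Hom (𝟙 C') Lφ.D' L.D' :=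
    { φ := e
      φ_str := fun a => by rw [← Lφ.ev_C, he, L.ev_C]; rfl
      π_φ := fun r => by
        obtain ⟨v, rfl⟩ := phiLift_surjective hx hp hs L₀ (-ψ) r
        rw [he, L.π_ev hx]
        exact (Lφ.π_ev hx v).symm }
  refine ⟨H.toIso, fun r => ?_⟩
  obtain ⟨v, rfl⟩ := phiLift_surjective hx hp hs L₀ (-ψ) r
  show L.h.φ (e (Lφ.ev v)) = Lφ.h.φ (Lφ.ev v)
  rw [he, L.h_ev, Lφ.h_ev]

include hx hs in
theorem Lifted.ev_subst (L : Lifted (p := p) D x) (Ψ : CotT.L0 (canP k B₀) →ₗ[B₀] B₀ ⊗[k] ↥(RingHom.ker p.toAlgHom))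
    (σ : Cov B₀ C' →+* Cov B₀ C') (hC : ∀ a, σ (MvPolynomial.C a) = MvPolynomial.C a)
    (hX : ∀ v, L.ev (σ (MvPolynomial.X v)) =
      L.ev (MvPolynomial.X v) + mu hp L.D' (Ψ ((canP k B₀).cotangentSpaceBasis v)))
    (w : Cov B₀ C') : L.ev (σ w) = L.ev w +
      mu hp L.D' (Ψ ((1 : B₀) ⊗ₜ KaehlerDifferential.D k (canP k B₀).toExtension.Ring (red B₀ C' w))) := by
  induction w using MvPolynomial.induction_on with
  | C a =>
    rw [hC, show red B₀ C' (MvPolynomial.C a) = algebraMap k (canP k B₀).toExtension.Ring (C'.res a) from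
      MvPolynomial.map_C _ a, Derivation.map_algebraMap, TensorProduct.tmul_zero, map_zero, map_zero, add_zero]
  | add a b ha hb =>
    simp only [map_add, Derivation.map_add, TensorProduct.tmul_add, ha, hb]
    abel
  | mul_X a v ha =>
    have h1 : red B₀ C' (a * MvPolynomial.X v) = red B₀ C' a * red B₀ C' (MvPolynomial.X v) := map_mul _ _ _
    have hv : red B₀ C' (MvPolynomial.X v) = MvPolynomial.X v := MvPolynomial.map_X _ v
    have hb : (1 : B₀) ⊗ₜ KaehlerDifferential.D k (canP k B₀).toExtension.Ring (MvPolynomial.X v : (canP k B₀).toExtension.Ring) =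
        (canP k B₀).cotangentSpaceBasis v := ((canP k B₀).cotangentSpaceBasis_apply v).symm
    have hπ0 : ∀ a, L.D'.π (mu hp L.D' a) = 0 := fun a => by
      rw [← L.h.π_φ, (mem_ker_iff hp L.D' L.h hs _).mpr ⟨a, rfl⟩, map_zero]
    have hr : ∀ r : (canP k B₀).toExtension.Ring, ∀ ω, (1 : B₀) ⊗ₜ[(canP k B₀).toExtension.Ring] (r • ω : Ω[(canP k B₀).toExtension.Ring⁄k]) =
        algebraMap (canP k B₀).toExtension.Ring B₀ r • ((1 : B₀) ⊗ₜ ω) := fun r ω => by
      rw [TensorProduct.tmul_smul, IsScalarTower.algebraMap_smul]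
    have hX' : algebraMap (canP k B₀).toExtension.Ring B₀ (MvPolynomial.X v : (canP k B₀).toExtension.Ring) = v :=
      MvPolynomial.aeval_X _ v
    have ha' : algebraMap (canP k B₀).toExtension.Ring B₀ (red B₀ C' a) = redB B₀ C' a := rfl
    rw [map_mul σ, map_mul L.ev, map_mul L.ev, ha, hX, h1, hv, Derivation.leibniz, TensorProduct.tmul_add, hr, hr, hb,
      hX', ha', map_add Ψ, map_smul Ψ, map_smul Ψ, map_add (mu hp L.D')]
    rw [add_mul, mul_add, mul_add, mul_mu, mul_mu, L.π_ev hx, hπ0, zero_smul, map_zero, add_zero,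
      mul_comm (mu hp L.D' _) (L.ev (MvPolynomial.X v)), mul_mu, L.π_ev hx, redB_X]
    abel

include hx hp hs L₀ in
theorem subst_props (Ψ : CotT.L0 (canP k B₀) →ₗ[B₀] B₀ ⊗[k] ↥(RingHom.ker p.toAlgHom)) :
    ∃ σ : Cov B₀ C' →+* Cov B₀ C', (∀ a, σ (MvPolynomial.C a) = MvPolynomial.C a) ∧
      (∀ w, red B₀ C' (σ w) = red B₀ C' w) ∧ (∀ w, evD p D x (σ w) = evD p D x w) ∧
      ∀ (L : Lifted (p := p) D x) w, L.ev (σ w) = L.ev w +
        mu hp L.D' (Ψ ((1 : B₀) ⊗ₜ KaehlerDifferential.D k (canP k B₀).toExtension.Ring (red B₀ C' w))) := by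
  choose j hj hj' using fun v => exists_jlift hx hp (Ψ ((canP k B₀).cotangentSpaceBasis v))
  let σ : Cov B₀ C' →+* Cov B₀ C' :=
    MvPolynomial.eval₂Hom MvPolynomial.C (fun v => MvPolynomial.X v + lcP (j v))
  have hC : ∀ a, σ (MvPolynomial.C a) = MvPolynomial.C a := fun a => MvPolynomial.eval₂Hom_C _ _ a
  have hT : ∀ (L : Lifted (p := p) D x) w, L.ev (σ w) = L.ev w +
      mu hp L.D' (Ψ ((1 : B₀) ⊗ₜ KaehlerDifferential.D k (canP k B₀).toExtension.Ring (red B₀ C' w))) := fun L w =>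
    Lifted.ev_subst (hx := hx) (hp := hp) (hs := hs) (L := L) (Ψ := Ψ) (σ := σ) (hC := hC) (hX := fun v => by
      show L.ev (MvPolynomial.eval₂Hom _ _ (MvPolynomial.X v)) = _
      rw [MvPolynomial.eval₂Hom_X', map_add, hj']) w
  refine ⟨σ, hC, fun w => ?_, fun w => ?_, hT⟩
  · have h : (red B₀ C').comp σ = red B₀ C' := MvPolynomial.ringHom_ext (fun a => by
        show red B₀ C' (σ (MvPolynomial.C a)) = _
        rw [hC]) (fun v => by
        show red B₀ C' (MvPolynomial.eval₂Hom _ _ (MvPolynomial.X v)) = _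
        rw [MvPolynomial.eval₂Hom_X', map_add, hj, add_zero])
    exact RingHom.congr_fun h w
  · rw [← L₀.h_ev, hT, map_add, L₀.h_ev, (mem_ker_iff hp L₀.D' L₀.h hs _).mpr ⟨_, rfl⟩, add_zero]

include hx hs in
theorem rel_iff (φ φ' : (canP k B₀).toExtension.Cotangent →ₗ[B₀] B₀ ⊗[k] ↥(RingHom.ker p.toAlgHom)) :
    Rel (phiLift hx hp hs L₀ φ).h (phiLift hx hp hs L₀ φ').h ↔
      CotT.homToT1 (canP k B₀) _ φ = CotT.homToT1 (canP k B₀) _ φ' := by
  rw [eq_comm (a := CotT.homToT1 (canP k B₀) _ φ), ← sub_eq_zero, ← map_sub, ← LinearMap.mem_ker, CotTLib.ker_homToT1,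
    LinearMap.mem_range]
  let L := phiLift hx hp hs L₀ φ
  let L' := phiLift hx hp hs L₀ φ'
  constructor
  · rintro ⟨e, he⟩
    choose δ hδ using fun v => (mem_ker_iff hp L'.D' L'.h hs
      (e.e (L.ev (MvPolynomial.X v)) - L'.ev (MvPolynomial.X v))).mp (by rw [map_sub, he, L.h_ev, L'.h_ev, sub_self])
    let Ψ := (canP k B₀).cotangentSpaceBasis.constr B₀ δ
    obtain ⟨σ, hC, hred, hD, hT⟩ := subst_props hx hp hs L₀ Ψ
    have hσ : ∀ w, e.e (L.ev w) = L'.ev (σ w) := by
      intro w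
      have h : e.e.toRingHom.comp L.ev = L'.ev.comp σ := MvPolynomial.ringHom_ext (fun a => by
          show e.e (L.ev _) = L'.ev (σ _)
          rw [hC, L.ev_C, L'.ev_C, e.e_str]) (fun v => by
          show e.e (L.ev _) = L'.ev (σ _)
          rw [hT, show red B₀ C' (MvPolynomial.X v) = MvPolynomial.X v from MvPolynomial.map_X _ v]
          have hb := (canP k B₀).cotangentSpaceBasis_apply v
          refine Eq.trans ?_ (congrArg (fun z => L'.ev (MvPolynomial.X v) + mu hp L'.D' (Ψ z)) hb)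
          show _ = L'.ev (MvPolynomial.X v) + mu hp L'.D' (Ψ ((canP k B₀).cotangentSpaceBasis v))
          rw [Module.Basis.constr_basis, hδ, add_sub_cancel])
      exact RingHom.congr_fun h w
    refine ⟨Ψ, LinearMap.ext fun c => ?_⟩
    obtain ⟨f, rfl⟩ := Algebra.Extension.Cotangent.mk_surjective c
    obtain ⟨w, hw, hwK⟩ := exists_zero_lift hx hp hs L₀ φ f
    have h1 : L.ev w = 0 := RingHom.mem_ker.mp ((ker_phiLift hx hp hs L₀ φ).symm ▸ hwK)
    have h2 : σ w ∈ kIdeal hx hp L₀ φ' := by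
      rw [← ker_phiLift hx hp hs L₀ φ', RingHom.mem_ker, ← hσ, h1, map_zero]
    obtain ⟨hD2, e2⟩ := h2
    obtain ⟨hD1, e1⟩ := hwK
    rw [hT, e1, ← map_add] at e2
    have e3 := mu_injective hp L₀.D' e2
    have hf : (⟨red B₀ C' w, red_mem_ker hx hD1⟩ : (canP k B₀).toExtension.ker) = f := Subtype.ext hw
    have hf' : (⟨red B₀ C' (σ w), red_mem_ker hx hD2⟩ : (canP k B₀).toExtension.ker) = f :=
      Subtype.ext ((hred w).trans hw)
    rw [hf, hf', hw] at e3
    show Ψ ((canP k B₀).toExtension.cotangentComplex (Algebra.Extension.Cotangent.mk f)) = _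
    rw [Algebra.Extension.cotangentComplex_mk, LinearMap.sub_apply, eq_sub_iff_add_eq, add_comm]
    exact e3
  · rintro ⟨Ψ, hΨ⟩
    obtain ⟨σ, hC, hred, hD, hT⟩ := subst_props hx hp hs L₀ Ψ
    have hle : RingHom.ker L.ev ≤ RingHom.ker (L'.ev.comp σ) := by
      rw [ker_phiLift]
      intro w hw
      rw [RingHom.mem_ker, RingHom.comp_apply, ← RingHom.mem_ker, ker_phiLift]
      obtain ⟨hwD, e1⟩ := hw
      refine ⟨(hD w).trans hwD, ?_⟩
      rw [hT, e1, ← map_add]
      refine congrArg (mu hp L₀.D') ?_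
      have h3 := LinearMap.congr_fun hΨ (Algebra.Extension.Cotangent.mk ⟨red B₀ C' w, red_mem_ker hx hwD⟩)
      rw [LinearMap.sub_apply, LinearMap.lcomp_apply, Algebra.Extension.cotangentComplex_mk] at h3
      have hf' : (⟨red B₀ C' (σ w), red_mem_ker hx ((hD w).trans hwD)⟩ : (canP k B₀).toExtension.ker) =
          ⟨red B₀ C' w, red_mem_ker hx hwD⟩ := Subtype.ext (hred w)
      rw [hf', h3, add_sub_cancel]
    let e : L.D'.R →+* L'.D'.R :=
      RingHom.liftOfSurjective L.ev (phiLift_surjective hx hp hs L₀ φ) ⟨L'.ev.comp σ, hle⟩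
    have he : ∀ v, e (L.ev v) = L'.ev (σ v) := fun v =>
      RingHom.liftOfRightInverse_comp_apply L.ev _ (Function.surjInv_eq (phiLift_surjective hx hp hs L₀ φ))
        ⟨L'.ev.comp σ, hle⟩ v
    let H : Hom (𝟙 C') L.D' L'.D' :=
      { φ := e
        φ_str := fun a => by rw [← L.ev_C, he, hC, L'.ev_C]; rfl
        π_φ := fun r => by
          obtain ⟨v, rfl⟩ := phiLift_surjective hx hp hs L₀ φ r
          rw [he, L'.π_ev hx, L.π_ev hx, ← π_evD D x hx, hD, π_evD D x hx] }
    refine ⟨H.toIso, fun r => ?_⟩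
    obtain ⟨v, rfl⟩ := phiLift_surjective hx hp hs L₀ φ r
    show L'.h.φ (e (L.ev v)) = L.h.φ (L.ev v)
    rw [he, L'.h_ev, L.h_ev, hD]

end Cover

section SchLevel

variable (p)

/-- The identification of a base change with a lift. -/
def bcIso {D : RingDef B₀ C} {D' : RingDef B₀ C'} (h : Hom p D' D) : (D'.toSch.baseChange p).Iso D.toSch :=
  h.exists_iso.choose.symm

theorem bcIso_inv_fst {D : RingDef B₀ C} {D' : RingDef B₀ C'} (h : Hom p D' D) :
    (bcIso p h).iso.inv ≫ pullback.fst D'.toSch.f (specMap p) = Spec.map (CommRingCat.ofHom h.φ) :=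
  h.exists_iso.choose_spec

variable {X : Scheme.{u}} {x : X ⟶ specPt k} {ξ : DefSch X x C}

/-- Equivalence of extensions. -/
def ExtEquiv (a b : Σ ξ' : DefSch X x C', (ξ'.baseChange p).Iso ξ) : Prop :=
  ∃ ψ : a.1.Iso b.1, ((ψ.baseChange p).trans b.2).iso = a.2.iso

theorem pullMap_inv_eq {a b : DefSch X x C'} (ψ : a.Iso b) {c : DefSch X x C} (u : (b.baseChange p).Iso c) :
    ((ψ.baseChange p).trans u).iso.inv ≫ pullback.fst a.f (specMap p) =
      u.iso.inv ≫ pullback.fst b.f (specMap p) ≫ ψ.iso.inv := by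
  refine (Category.assoc _ _ _).trans (congrArg (u.iso.inv ≫ ·) ?_)
  exact DefSch.pullMap_fst ψ.iso.inv ψ.symm.hom_f p

theorem iso_ext {a : DefSch X x C'} {c : DefSch X x C} {u v : (a.baseChange p).Iso c}
    (h : u.iso.inv ≫ pullback.fst a.f (specMap p) = v.iso.inv ≫ pullback.fst a.f (specMap p)) : u.iso = v.iso := by
  have h1 : u.iso.inv = v.iso.inv := pullback.hom_ext h ((u.symm.hom_f).trans (v.symm.hom_f).symm)
  exact CategoryTheory.Iso.ext_inv h1

theorem extEquiv_equivalence : Equivalence (ExtEquiv p (ξ := ξ)) where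
  refl a := ⟨DefSch.Iso.refl _, iso_ext p ((pullMap_inv_eq p _ _).trans (by
    rw [show (DefSch.Iso.refl a.1).iso.inv = 𝟙 _ from rfl, Category.comp_id]))⟩
  symm {a b} := fun ⟨ψ, h⟩ => ⟨ψ.symm, iso_ext p ((pullMap_inv_eq p _ _).trans (by
    rw [← h, show ψ.symm.iso.inv = ψ.iso.hom from rfl, ← Category.assoc, pullMap_inv_eq, Category.assoc, Category.assoc,
      CategoryTheory.Iso.inv_hom_id, Category.comp_id]))⟩
  trans {a b c} := fun ⟨ψ, h⟩ ⟨ψ', h'⟩ => ⟨ψ.trans ψ', iso_ext p ((pullMap_inv_eq p _ _).trans (by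
    rw [← h, pullMap_inv_eq, ← h', show (ψ.trans ψ').iso.inv = ψ'.iso.inv ≫ ψ.iso.inv from rfl]
    simp only [← Category.assoc]
    rw [pullMap_inv_eq]
    simp only [Category.assoc]))⟩

variable {D : RingDef B₀ C} {ξ₀ : DefSch (Spec (CommRingCat.of B₀)) (base0 B₀) C} (e₀ : D.toSch.Iso ξ₀)

/-- The extension given by a morphism of lifts. -/
def extOfHom {D' : RingDef B₀ C'} (h : Hom p D' D) :
    Σ ξ' : DefSch (Spec (CommRingCat.of B₀)) (base0 B₀) C', (ξ'.baseChange p).Iso ξ₀ :=
  ⟨D'.toSch, (bcIso p h).trans e₀⟩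

theorem extEquiv_extOfHom_iff {D₁ D₂ : RingDef B₀ C'} (h₁ : Hom p D₁ D) (h₂ : Hom p D₂ D) :
    ExtEquiv p (extOfHom p e₀ h₁) (extOfHom p e₀ h₂) ↔ Rel h₁ h₂ := by
  have key : ∀ ψ : D₁.toSch.Iso D₂.toSch,
      ((ψ.baseChange p).trans ((bcIso p h₂).trans e₀)).iso = ((bcIso p h₁).trans e₀).iso ↔
        Spec.map (CommRingCat.ofHom h₂.φ) ≫ ψ.iso.inv = Spec.map (CommRingCat.ofHom h₁.φ) := by
    intro ψ
    have h3 : ((ψ.baseChange p).trans ((bcIso p h₂).trans e₀)).iso.inv ≫ pullback.fst D₁.toSch.f (specMap p) =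
        e₀.iso.inv ≫ Spec.map (CommRingCat.ofHom h₂.φ) ≫ ψ.iso.inv := by
      rw [pullMap_inv_eq, show ((bcIso p h₂).trans e₀).iso.inv = e₀.iso.inv ≫ (bcIso p h₂).iso.inv from rfl,
        Category.assoc, ← Category.assoc (bcIso p h₂).iso.inv, bcIso_inv_fst]
      rfl
    have h4 : ((bcIso p h₁).trans e₀).iso.inv ≫ pullback.fst D₁.toSch.f (specMap p) =
        e₀.iso.inv ≫ Spec.map (CommRingCat.ofHom h₁.φ) :=
      (Category.assoc _ _ _).trans (congrArg (e₀.iso.inv ≫ ·) (bcIso_inv_fst p h₁))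
    constructor
    · intro h
      rw [h, h4] at h3
      exact ((cancel_epi e₀.iso.inv).mp h3).symm
    · intro h
      exact iso_ext p (h3.trans ((congrArg (e₀.iso.inv ≫ ·) h).trans h4.symm))
  constructor
  · rintro ⟨ψ, hψ⟩
    obtain ⟨e, he⟩ := RingDef.exists_iso_of_toSch ψ
    have h := (key ψ).mp hψ
    rw [← he] at h
    change Spec.map (CommRingCat.ofHom h₂.φ) ≫ Spec.map (CommRingCat.ofHom e.e.toRingHom) = _ at h
    rw [← Spec.map_comp] at h
    exact ⟨e, fun r => ConcreteCategory.congr_hom (Spec.map_injective h) r⟩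
  · rintro ⟨e, he⟩
    refine ⟨e.toSch, (key _).mpr ?_⟩
    show Spec.map (CommRingCat.ofHom h₂.φ) ≫ Spec.map (CommRingCat.ofHom e.e.toRingHom) = _
    rw [← Spec.map_comp]
    exact congrArg Spec.map (CommRingCat.hom_ext (RingHom.ext he))

theorem exists_extOfHom (a : Σ ξ' : DefSch (Spec (CommRingCat.of B₀)) (base0 B₀) C', (ξ'.baseChange p).Iso ξ₀) :
    ∃ (D' : RingDef B₀ C') (h : Hom p D' D), ExtEquiv p (extOfHom p e₀ h) a := by
  obtain ⟨D', ⟨f⟩⟩ := RingDef.exists_iso_toSch a.1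
  obtain ⟨h, hh⟩ := exists_hom (((f.baseChange p).trans a.2).trans e₀.symm).symm
  refine ⟨D', h, f, ?_⟩
  have h1 : (((f.baseChange p).trans a.2).trans e₀.symm).iso = (bcIso p h).iso :=
    iso_ext p (hh.trans (bcIso_inv_fst p h).symm)
  show ((f.baseChange p).trans a.2).iso = (bcIso p h).iso ≪≫ e₀.iso
  rw [← h1]
  refine CategoryTheory.Iso.ext ?_
  show _ = (((f.baseChange p).trans a.2).iso.hom ≫ e₀.iso.inv) ≫ e₀.iso.hom
  rw [Category.assoc, CategoryTheory.Iso.inv_hom_id, Category.comp_id]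

end SchLevel

end Groth.Agent.DefSchLib
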