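import Mathlib
import Groth.Prelude.Def_Exal
import Groth.Agent.DefSchLib.Affine
import Groth.Agent.DeformLib.SqZero

/-! First order deformations of an affine scheme are the extensions of its ring by itself. -/

set_option autoImplicit false

noncomputable section

universe u

open CategoryTheory AlgebraicGeometry IsLocalRing
open scoped TensorProduct

namespace Groth.Agent.DefSchLib

open ArtFun ArtFun.Art

variable {Λ k : Type u} [CommRing Λ] [Field k] [Algebra Λ k] {B : Type u} [CommRing B] [Algebra k B]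

theorem mem_maximalIdeal_dual {a : Art.dual Λ k} (ha : a ∈ maximalIdeal (Art.dual Λ k)) :
    TrivSqZeroExt.fst (a : DualNumber k) = 0 := ((Art.dual Λ k).mem_maximalIdeal_iff a).mp ha

theorem eps_mem : (DualNumber.eps : DualNumber k) ∈ maximalIdeal (Art.dual Λ k) :=
  ((Art.dual Λ k).mem_maximalIdeal_iff _).mpr (TrivSqZeroExt.fst_inr k 1)

theorem eq_mul_eps {a : DualNumber k} (ha : TrivSqZeroExt.fst a = 0) :
    a = TrivSqZeroExt.inl (TrivSqZeroExt.snd a) * DualNumber.eps :=
  TrivSqZeroExt.ext (by simp [ha]) (by simp)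

theorem decomp_dual (a : DualNumber k) :
    TrivSqZeroExt.inl (TrivSqZeroExt.fst a) + TrivSqZeroExt.inl (TrivSqZeroExt.snd a) * DualNumber.eps = a :=
  TrivSqZeroExt.ext (by simp) (by simp)

variable (Λ k) in
/-- `ε` as an element of the object `k[ε]`. -/
def epsA : Art.dual Λ k := (DualNumber.eps : DualNumber k)

theorem exists_eq_mul_epsA {a : Art.dual Λ k} (ha : a ∈ maximalIdeal (Art.dual Λ k)) :
    ∃ c : Art.dual Λ k, a = c * epsA Λ k :=
  ⟨(TrivSqZeroExt.inl (TrivSqZeroExt.snd (a : DualNumber k)) : DualNumber k), eq_mul_eps (mem_maximalIdeal_dual ha)⟩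

theorem epsA_mul_epsA : epsA Λ k * epsA Λ k = 0 := DualNumber.eps_mul_eps

section OfExt

variable (X : Exal.Ext k B B)

def extStr : DualNumber k →ₐ[k] X.E :=
  DualNumber.lift ⟨(Algebra.ofId k X.E, X.incl 1),
    by rw [X.isExtension.mul_incl, show X.proj (X.incl 1) = 0 from (X.isExtension.exact _).mpr ⟨1, rfl⟩,
      zero_smul, map_zero],
    fun _ => Commute.all _ _⟩

theorem extStr_apply (a : DualNumber k) :
    extStr X a = algebraMap k X.E (TrivSqZeroExt.fst a) + algebraMap k X.E (TrivSqZeroExt.snd a) * X.incl 1 := rfl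

theorem extStr_eps : extStr X DualNumber.eps = X.incl 1 := DualNumber.lift_apply_eps _

theorem proj_extStr (a : DualNumber k) : X.proj (extStr X a) = algebraMap k B (TrivSqZeroExt.fst a) := by
  rw [extStr_apply, map_add, map_mul, show X.proj (X.incl 1) = 0 from (X.isExtension.exact _).mpr ⟨1, rfl⟩,
    mul_zero, add_zero, X.proj.commutes]

theorem flat_extStr : @RingHom.Flat (Art.dual Λ k) X.E _ _ (extStr X).toRingHom := by
  letI : Algebra (Art.dual Λ k) X.E := ((extStr X).toRingHom : Art.dual Λ k →+* X.E).toAlgebra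
  show Module.Flat (Art.dual Λ k) X.E
  set J := maximalIdeal (Art.dual Λ k)
  letI := Ideal.Quotient.field J
  let r : (Art.dual Λ k) ⧸ J →+* B := (algebraMap k B).comp
    (Ideal.Quotient.lift J ((Art.dual Λ k).res : Art.dual Λ k →+* k) fun a ha => mem_maximalIdeal_dual ha)
  letI : Module ((Art.dual Λ k) ⧸ J) B := Module.compHom B r
  haveI : Module.Flat ((Art.dual Λ k) ⧸ J) B := inferInstance
  refine DeformLib.flat_of_sqzero (J := J) ?_ X.proj.toRingHom.toAddMonoidHom X.isExtension.proj_surjective ?_ ?_ ?_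
  · rw [eq_bot_iff, Ideal.mul_le]
    intro a ha b hb
    rw [Ideal.mem_bot]
    obtain ⟨c, rfl⟩ := exists_eq_mul_epsA ha
    obtain ⟨d, rfl⟩ := exists_eq_mul_epsA hb
    rw [mul_mul_mul_comm, epsA_mul_epsA, mul_zero]
  · intro a m
    show X.proj (extStr X a * m) = algebraMap k B (TrivSqZeroExt.fst (a : DualNumber k)) • X.proj m
    rw [map_mul, proj_extStr, smul_eq_mul]
  · intro m hm
    obtain ⟨z, rfl⟩ := (X.isExtension.exact m).mp hm
    obtain ⟨x, hx⟩ := X.isExtension.proj_surjective z
    have : X.incl z = epsA Λ k • x := by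
      show _ = extStr X DualNumber.eps * x
      rw [extStr_eps, mul_comm, X.isExtension.mul_incl, hx, smul_eq_mul, mul_one]
    rw [this]
    exact Submodule.smul_mem_smul eps_mem trivial
  · let e : J := ⟨DualNumber.eps, eps_mem⟩
    have key : ∀ z : X.E ⊗[Art.dual Λ k] J, ∃ m, z = m ⊗ₜ e := by
      intro z
      induction z using TensorProduct.induction_on with
      | zero => exact ⟨0, (TensorProduct.zero_tmul _ _).symm⟩
      | tmul m j =>
        obtain ⟨c, hc⟩ := exists_eq_mul_epsA j.2
        refine ⟨c • m, ?_⟩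
        rw [TensorProduct.smul_tmul]
        exact congrArg (m ⊗ₜ[Art.dual Λ k] ·) (Subtype.ext hc)
      | add a b ha hb =>
        obtain ⟨m, rfl⟩ := ha
        obtain ⟨n, rfl⟩ := hb
        exact ⟨m + n, (TensorProduct.add_tmul _ _ _).symm⟩
    rw [injective_iff_map_eq_zero]
    intro z hz
    obtain ⟨m, rfl⟩ := key z
    have h := congrArg (TensorProduct.rid (Art.dual Λ k) X.E) hz
    rw [map_zero] at h
    change extStr X DualNumber.eps * m = 0 at h
    rw [extStr_eps, mul_comm, X.isExtension.mul_incl, smul_eq_mul, mul_one] at h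
    have hm : X.proj m = 0 := X.isExtension.incl_injective (h.trans (map_zero _).symm)
    obtain ⟨w, rfl⟩ := (X.isExtension.exact m).mp hm
    obtain ⟨x, hx⟩ := X.isExtension.proj_surjective w
    have hw : X.incl w = epsA Λ k • x := by
      show _ = extStr X DualNumber.eps * x
      rw [extStr_eps, mul_comm, X.isExtension.mul_incl, hx, smul_eq_mul, mul_one]
    rw [hw, TensorProduct.smul_tmul,
      show epsA Λ k • e = 0 from Subtype.ext DualNumber.eps_mul_eps, TensorProduct.tmul_zero]

variable (Λ) in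
def ofExt : RingDef B (Art.dual Λ k) where
  R := X.E
  str := (extStr X).toRingHom
  flat := flat_extStr X
  π := X.proj.toRingHom
  π_surjective := X.isExtension.proj_surjective
  π_str := proj_extStr X
  ker_π := by
    refine le_antisymm (fun m hm => ?_) (Ideal.map_le_iff_le_comap.mpr fun a ha => ?_)
    · obtain ⟨z, rfl⟩ := (X.isExtension.exact m).mp hm
      obtain ⟨x, hx⟩ := X.isExtension.proj_surjective z
      rw [show X.incl z = x * X.incl 1 by rw [X.isExtension.mul_incl, hx, smul_eq_mul, mul_one]]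
      refine Ideal.mul_mem_left _ _ ?_
      rw [← extStr_eps]
      exact Ideal.mem_map_of_mem _ eps_mem
    · rw [Ideal.mem_comap, RingHom.mem_ker]
      show X.proj (extStr X a) = 0
      rw [proj_extStr, mem_maximalIdeal_dual ha, map_zero]

end OfExt

theorem ofExt_iso {X Y : Exal.Ext k B B} (e : X.Equiv Y) : Nonempty ((ofExt Λ X).Iso (ofExt Λ Y)) :=
  ⟨⟨e.toAlgEquiv.toRingEquiv, fun a => by
    show e.toAlgEquiv (extStr X a) = extStr Y a
    rw [extStr_apply, extStr_apply, map_add, map_mul, AlgEquiv.commutes, AlgEquiv.commutes, e.apply_incl],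
    e.proj_apply⟩⟩

theorem equiv_of_iso {X Y : Exal.Ext k B B} (e : (ofExt Λ X).Iso (ofExt Λ Y)) : Nonempty (X.Equiv Y) := by
  have hs : ∀ a, e.e (extStr X a) = extStr Y a := e.e_str
  have hp : ∀ x, Y.proj (e.e x) = X.proj x := e.π_e
  refine ⟨⟨AlgEquiv.ofRingEquiv (f := (e.e : X.E ≃+* Y.E)) fun c => ?_, hp, fun z => ?_⟩⟩
  · have h := hs (TrivSqZeroExt.inl c)
    rw [extStr_apply, extStr_apply, TrivSqZeroExt.fst_inl, TrivSqZeroExt.snd_inl, map_zero, map_zero, zero_mul,
      zero_mul, add_zero, add_zero] at h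
    exact h
  · obtain ⟨x, hx⟩ := X.isExtension.proj_surjective z
    have h1 : X.incl z = x * X.incl 1 := by rw [X.isExtension.mul_incl, hx, smul_eq_mul, mul_one]
    have h2 := hs DualNumber.eps
    rw [extStr_eps, extStr_eps] at h2
    show (e.e : X.E ≃+* Y.E) (X.incl z) = Y.incl z
    let ee : X.E ≃+* Y.E := e.e
    have h3 : ee (x * X.incl 1) = ee x * Y.incl 1 :=
      (map_mul ee x (X.incl 1)).trans (congrArg (ee x * ·) h2)
    refine (congrArg ee h1).trans (h3.trans ?_)
    rw [Y.isExtension.mul_incl]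
    exact congrArg Y.incl (by rw [smul_eq_mul, mul_one]; exact (hp x).trans hx)

theorem exists_ofExt (D : RingDef B (Art.dual Λ k)) : ∃ X : Exal.Ext k B B, Nonempty ((ofExt Λ X).Iso D) := by
  letI : Algebra k D.R := (D.str.comp (algebraMap k (DualNumber k))).toAlgebra
  have hal : ∀ c, algebraMap k D.R c = D.str (TrivSqZeroExt.inl c) := fun c => rfl
  let e : D.R := D.str DualNumber.eps
  have he2 : e * e = 0 := by
    show D.str _ * D.str _ = 0
    rw [← map_mul]
    exact (congrArg D.str DualNumber.eps_mul_eps).trans (map_zero _)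
  have hker : ∀ r, D.π r = 0 ↔ ∃ y, r = y * e := by
    intro r
    rw [← RingHom.mem_ker, D.ker_π]
    have : (maximalIdeal (Art.dual Λ k)).map D.str = Ideal.span {e} := by
      refine le_antisymm (Ideal.map_le_iff_le_comap.mpr fun a ha => ?_) ?_
      · obtain ⟨c, rfl⟩ := exists_eq_mul_epsA ha
        rw [Ideal.mem_comap, map_mul]
        exact Ideal.mul_mem_left _ _ (Ideal.mem_span_singleton_self _)
      · rw [Ideal.span_le, Set.singleton_subset_iff]
        exact Ideal.mem_map_of_mem _ eps_mem
    rw [this, Ideal.mem_span_singleton']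
    exact ⟨fun ⟨y, h⟩ => ⟨y, h.symm⟩, fun ⟨y, h⟩ => ⟨y, h.symm⟩⟩
  have hann : ∀ r, r * e = 0 → D.π r = 0 := by
    intro r hr
    letI : Algebra (Art.dual Λ k) D.R := D.str.toAlgebra
    haveI : Module.Flat (Art.dual Λ k) D.R := D.flat
    have h0 : ∑ _i : Fin 1, epsA Λ k • r = 0 := by
      rw [Fin.sum_univ_one]
      show D.str _ * r = 0
      rw [mul_comm]; exact hr
    obtain ⟨n, a, y, hy, ha⟩ := Module.Flat.isTrivialRelation_of_sum_smul_eq_zero (R := Art.dual Λ k) (M := D.R) (f := fun _ : Fin 1 => epsA Λ k)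
      (x := fun _ => r) h0
    rw [show r = _ from hy 0, map_sum]
    refine Finset.sum_eq_zero fun j _ => ?_
    show D.π (D.str (a 0 j) * y j) = 0
    have h1 := ha j
    rw [Fin.sum_univ_one] at h1
    let a0 : DualNumber k := a 0 j
    change (DualNumber.eps : DualNumber k) * a0 = 0 at h1
    have h2 : TrivSqZeroExt.fst a0 = 0 := by
      simpa using congrArg TrivSqZeroExt.snd h1
    rw [map_mul, D.π_str, show (Art.dual Λ k).res (a 0 j) = 0 from h2, map_zero, zero_mul]
  let p : D.R →ₐ[k] B := { D.π with commutes' := fun c => (D.π_str _).trans rfl }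
  let s := Function.surjInv D.π_surjective
  have hs : ∀ b, D.π (s b) = b := Function.surjInv_eq _
  have hwd : ∀ r r', D.π r = D.π r' → r * e = r' * e := by
    intro r r' h
    obtain ⟨y, hy⟩ := (hker (r - r')).mp (by rw [map_sub, h, sub_self])
    rw [← sub_eq_zero, ← sub_mul, hy, mul_assoc, he2, mul_zero]
  let i : B →+ D.R := AddMonoidHom.mk' (fun b => s b * e) fun a b => by
    rw [← add_mul]
    exact hwd _ _ (by rw [map_add, hs, hs, hs])
  have hi : ∀ r, i (D.π r) = r * e := fun r => hwd _ _ (hs _)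
  let X : Exal.Ext k B B :=
    { E := D.R
      proj := p
      incl := i
      isExtension :=
        { proj_surjective := D.π_surjective
          incl_injective := (injective_iff_map_eq_zero i).mpr fun b hb => (hs b).symm.trans (hann _ hb)
          exact := fun x => by
            refine (hker x).trans ⟨fun ⟨y, hy⟩ => ⟨D.π y, (hi y).trans hy.symm⟩, ?_⟩
            rintro ⟨b, rfl⟩
            exact ⟨s b, rfl⟩
          mul_incl := fun x z => by
            show x * (s z * e) = i (D.π x • z)
            rw [show D.π x • z = D.π (x * s z) by rw [map_mul, hs, smul_eq_mul], hi, mul_assoc] } }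
  refine ⟨X, ⟨⟨RingEquiv.refl D.R, fun a => ?_, fun r => rfl⟩⟩⟩
  show extStr X a = D.str a
  rw [extStr_apply]
  show algebraMap k D.R _ + algebraMap k D.R _ * i 1 = _
  rw [hal, hal, show (1 : B) = D.π 1 from (map_one _).symm, hi, one_mul, ← map_mul, ← map_add]
  exact congrArg D.str (decomp_dual a)

end Groth.Agent.DefSchLib
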