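import Mathlib
import Groth.Agent.CotTLib.Exal
import Groth.Agent.CotTLib.Retract
import Groth.Agent.DefSchLib.Fibre
import Groth.Agent.DefSchLib.Dual

/-! The tangent space of the deformation functor of an affine scheme is a quotient of `Hom(I/I², B)`. -/

set_option autoImplicit false

noncomputable section

universe u

open CategoryTheory AlgebraicGeometry IsLocalRing

attribute [local instance] Exal.opModule Exal.isCentralScalar_opModule

namespace Groth.Agent.DefSchLib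

open ArtFun ArtFun.Art CotTLib

section ExtMap

variable {A B : Type u} [CommRing A] [CommRing B] [Algebra A B] {ι σ : Type u}
  {P : Algebra.Presentation A B ι σ} {L L' : Type u} [AddCommGroup L] [Module B L] [AddCommGroup L'] [Module B L']

/-- Functoriality of `Pre` in the module. -/
def preMap (g : L →ₗ[B] L') : Pre P L →ₐ[A] Pre P L' where
  toFun x := pre P L' (preR P L x) (g (preL P L x))
  map_one' := pre_ext (by rw [preR_pre, preR_one, preR_one]) (by rw [preL_pre, preL_one, preL_one, map_zero])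
  map_mul' x y := pre_ext (by simp only [preR_pre, preR_mul])
    (by simp only [preR_pre, preL_pre, preL_mul, preR_mul, map_add, map_smul])
  map_zero' := pre_ext (by rw [preR_pre, preR_zero, preR_zero]) (by rw [preL_pre, preL_zero, preL_zero, map_zero])
  map_add' x y := pre_ext (by simp only [preR_pre, preR_add]) (by simp only [preL_pre, preL_add, map_add])
  commutes' a := pre_ext (by rw [preR_pre, preR_algebraMap, preR_algebraMap])
    (by rw [preL_pre, preL_algebraMap, preL_algebraMap, map_zero])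

theorem exists_extMap (g : L →ₗ[B] L') (φ : P.toExtension.Cotangent →ₗ[B] L)
    {φ' : P.toExtension.Cotangent →ₗ[B] L'} (hφ' : g ∘ₗ φ = φ') :
    ∃ F : (extOf P φ).E →ₐ[A] (extOf P φ').E, (∀ x, (extOf P φ').proj (F x) = (extOf P φ).proj x) ∧
      ∀ l, F ((extOf P φ).incl l) = (extOf P φ').incl (g l) := by
  subst hφ'
  let F : (extOf P φ).E →ₐ[A] (extOf P (g ∘ₗ φ)).E := Ideal.Quotient.liftₐ (gKer P φ)
    ((Ideal.Quotient.mkₐ A (gKer P (g ∘ₗ φ))).comp (preMap g)) (fun x hx => by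
      obtain ⟨h, e⟩ := mem_gKer_iff.mp hx
      refine Ideal.Quotient.eq_zero_iff_mem.mpr (mem_gKer_iff.mpr ⟨by
        show preR P L' (pre P L' (preR P L x) _) ∈ _
        rw [preR_pre]; exact h, ?_⟩)
      show preL P L' (pre P L' (preR P L x) (g (preL P L x))) = -g _
      rw [preL_pre, e, map_neg]
      exact congrArg (fun y => -g (φ (Algebra.Extension.Cotangent.mk y))) (Subtype.ext (preR_pre _ _).symm))
  refine ⟨F, fun x => ?_, fun l => ?_⟩
  · obtain ⟨x, rfl⟩ := Ideal.Quotient.mk_surjective x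
    exact congrArg (algebraMap P.toExtension.Ring B) (preR_pre _ _)
  · show Ideal.Quotient.mk _ (pre P L' (preR P L (pre P L 0 l)) (g (preL P L (pre P L 0 l)))) = _
    rw [preR_pre, preL_pre]
    rfl

end ExtMap

variable {Λ k : Type u} [CommRing Λ] [Field k] [Algebra Λ k] {B : Type u} [CommRing B] [Algebra k B]
  {ι σ : Type u} (P : Algebra.Presentation k B ι σ)

local notation "F" => defFunctor (Λ := Λ) (k := k) (Spec (CommRingCat.of B)) (base0 B)

/-- The deformation attached to a homomorphism on the conormal module. -/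
abbrev phiDef (Λ : Type u) [CommRing Λ] [Algebra Λ k] (φ : P.toExtension.Cotangent →ₗ[B] B) :
    RingDef B (Art.dual Λ k) := ofExt Λ (extOf P φ)

theorem map_scale (c : k) (φ : P.toExtension.Cotangent →ₗ[B] B) :
    (F).map (scale c) (phiDef P Λ φ).toSch.cl = (phiDef P Λ (c • φ)).toSch.cl := by
  let g : B →ₗ[B] B := algebraMap k B c • LinearMap.id
  have hg : g ∘ₗ φ = c • φ := LinearMap.ext fun x => (Algebra.smul_def c (φ x)).symm
  obtain ⟨G, hG₁, hG₂⟩ := exists_extMap g φ rfl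
  rw [← hg]
  refine Hom.cl_eq (g := scale c) ⟨G.toRingHom, fun a => ?_, hG₁⟩
  show G (extStr (extOf P φ) a) = extStr (extOf P (g ∘ₗ φ)) (scale (Λ := Λ) c a)
  rw [extStr_apply, extStr_apply, map_add, map_mul, G.commutes, G.commutes, hG₂,
    (extOf P (g ∘ₗ φ)).isExtension.mul_incl, (extOf P (g ∘ₗ φ)).isExtension.mul_incl, AlgHom.commutes, AlgHom.commutes,
    smul_eq_mul, smul_eq_mul, mul_one]
  show _ + _ = _ + (extOf P (g ∘ₗ φ)).incl (algebraMap k B (c • TrivSqZeroExt.snd (a : DualNumber k)))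
  refine congrArg₂ (· + ·) rfl (congrArg _ ?_)
  show _ * (algebraMap k B c • (1 : B)) = _
  rw [smul_eq_mul, mul_one, smul_eq_mul, map_mul, mul_comm]

theorem exists_plus (φ ψ : P.toExtension.Cotangent →ₗ[B] B) :
    ∃ z : (F).obj (Art.dual2 Λ k), (F).map pr₁ z = (phiDef P Λ φ).toSch.cl ∧
      (F).map pr₂ z = (phiDef P Λ ψ).toSch.cl ∧ (F).map plus z = (phiDef P Λ (φ + ψ)).toSch.cl := by
  obtain ⟨D, b₁, b₂, -, -⟩ := exists_fibre isFibreProd_dual2 (Art.dual Λ k).res_surjective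
    (toBaseHom (phiDef P Λ φ)) (toBaseHom (phiDef P Λ ψ))
  refine ⟨D.toSch.cl, b₁.cl_eq, b₂.cl_eq, ?_⟩
  let Φ := φ.prod ψ
  let X := extOf P Φ
  let E₁ := extOf P φ
  let E₂ := extOf P ψ
  let Es := extOf P (φ + ψ)
  obtain ⟨Q₁, hq₁, hq₁'⟩ : ∃ Q : X.E →ₐ[k] E₁.E, (∀ x, E₁.proj (Q x) = X.proj x) ∧ ∀ l, Q (X.incl l) = E₁.incl l.1 :=
    exists_extMap (LinearMap.fst B B B) Φ (LinearMap.fst_prod φ ψ)
  obtain ⟨Q₂, hq₂, hq₂'⟩ : ∃ Q : X.E →ₐ[k] E₂.E, (∀ x, E₂.proj (Q x) = X.proj x) ∧ ∀ l, Q (X.incl l) = E₂.incl l.2 :=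
    exists_extMap (LinearMap.snd B B B) Φ (LinearMap.snd_prod φ ψ)
  obtain ⟨Qs, hqs, hqs'⟩ : ∃ Q : X.E →ₐ[k] Es.E, (∀ x, Es.proj (Q x) = X.proj x) ∧
      ∀ l, Q (X.incl l) = Es.incl (l.1 + l.2) :=
    exists_extMap (LinearMap.fst B B B + LinearMap.snd B B B) Φ (LinearMap.ext fun _ => rfl)
  let w : X.E →+* E₁.E × E₂.E := Q₁.toRingHom.prod Q₂.toRingHom
  have winj : Function.Injective w := by
    rw [injective_iff_map_eq_zero]
    intro e he
    have he₁ : Q₁ e = 0 := congrArg Prod.fst he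
    have he₂ : Q₂ e = 0 := congrArg Prod.snd he
    obtain ⟨l, rfl⟩ := (X.isExtension.exact e).mp (by rw [← hq₁]; exact (congrArg E₁.proj he₁).trans (map_zero _))
    have e1 : l.1 = 0 := E₁.isExtension.incl_injective (((hq₁' l).symm.trans he₁).trans (map_zero _).symm)
    have e2 : l.2 = 0 := E₂.isExtension.incl_injective (((hq₂' l).symm.trans he₂).trans (map_zero _).symm)
    rw [show l = 0 from Prod.ext e1 e2, map_zero]
  have wsurj : ∀ (u : E₁.E) (v : E₂.E), E₁.proj u = E₂.proj v → ∃ e, w e = (u, v) := by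
    intro u v huv
    obtain ⟨e₀, he₀⟩ := X.isExtension.proj_surjective (E₁.proj u)
    obtain ⟨l₁, hl₁⟩ := (E₁.isExtension.exact (u - Q₁ e₀)).mp (by
      rw [map_sub, show E₁.proj (Q₁ e₀) = X.proj e₀ from hq₁ e₀, he₀, sub_self])
    obtain ⟨l₂, hl₂⟩ := (E₂.isExtension.exact (v - Q₂ e₀)).mp (by
      rw [map_sub, show E₂.proj (Q₂ e₀) = X.proj e₀ from hq₂ e₀, he₀, huv, sub_self])
    refine ⟨e₀ + X.incl (l₁, l₂), Prod.ext ?_ ?_⟩
    · show Q₁ (e₀ + X.incl (l₁, l₂)) = u
      rw [map_add, show Q₁ (X.incl (l₁, l₂)) = E₁.incl l₁ from hq₁' _, hl₁, add_sub_cancel]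
    · show Q₂ (e₀ + X.incl (l₁, l₂)) = v
      rw [map_add, show Q₂ (X.incl (l₁, l₂)) = E₂.incl l₂ from hq₂' _, hl₂, add_sub_cancel]
  let c₁ : D.R →+* E₁.E := b₁.φ
  let c₂ : D.R →+* E₂.E := b₂.φ
  choose θ hθ using fun r : D.R => wsurj (c₁ r) (c₂ r) ((b₁.π_φ r).trans (b₂.π_φ r).symm)
  let Θ : D.R →+* X.E :=
    { toFun := θ
      map_one' := winj (by rw [hθ, map_one, map_one, map_one]; rfl)
      map_mul' := fun r s => winj (by rw [map_mul, hθ, hθ, hθ, map_mul, map_mul]; rfl)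
      map_zero' := winj (by rw [hθ, map_zero, map_zero, map_zero]; rfl)
      map_add' := fun r s => winj (by rw [map_add, hθ, hθ, hθ, map_add, map_add]; rfl) }
  refine Hom.cl_eq (g := plus) ⟨Qs.toRingHom.comp Θ, fun a => ?_, fun r => ?_⟩
  · show Qs (θ (D.str a)) = extStr Es (plus (Λ := Λ) a)
    let a₀ := TrivSqZeroExt.fst (a : TrivSqZeroExt k (k × k))
    let a' := TrivSqZeroExt.snd (a : TrivSqZeroExt k (k × k))
    let e : X.E := algebraMap k X.E a₀ + X.incl (algebraMap k B a'.1, algebraMap k B a'.2)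
    have hinc : ∀ (E : Exal.Ext k B B) (t : k), algebraMap k E.E t * E.incl 1 = E.incl (algebraMap k B t) := by
      intro E t
      rw [E.isExtension.mul_incl, AlgHom.commutes, smul_eq_mul, mul_one]
    have he : θ (D.str a) = e := winj (by
      rw [hθ]
      refine Prod.ext ?_ ?_
      · refine (b₁.φ_str a).trans ?_
        show extStr E₁ (pr₁ (Λ := Λ) a) = Q₁ e
        rw [extStr_apply, hinc, map_add, Q₁.commutes, show Q₁ (X.incl _) = E₁.incl _ from hq₁' _]
        rfl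
      · refine (b₂.φ_str a).trans ?_
        show extStr E₂ (pr₂ (Λ := Λ) a) = Q₂ e
        rw [extStr_apply, hinc, map_add, Q₂.commutes, show Q₂ (X.incl _) = E₂.incl _ from hq₂' _]
        rfl)
    rw [he, extStr_apply, hinc, map_add, Qs.commutes, show Qs (X.incl _) = Es.incl _ from hqs' _]
    show algebraMap k Es.E a₀ + Es.incl (algebraMap k B a'.1 + algebraMap k B a'.2) =
      algebraMap k Es.E a₀ + Es.incl (algebraMap k B (a'.1 + a'.2))
    rw [map_add (algebraMap k B)]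
  · refine (hqs (θ r)).trans ?_
    refine ((hq₁ (θ r)).symm.trans ?_).trans (b₁.π_φ r)
    exact congrArg E₁.proj (congrArg Prod.fst (hθ r))

theorem phiDef_congr {φ φ' : P.toExtension.Cotangent →ₗ[B] B} (h : CotT.homToT1 P B φ = CotT.homToT1 P B φ') :
    (phiDef P Λ φ).toSch.cl = (phiDef P Λ φ').toSch.cl := by
  have h0 : φ' - φ ∈ LinearMap.ker (CotT.homToT1 P B) := by rw [LinearMap.mem_ker, map_sub, h, sub_self]
  rw [CotTLib.ker_homToT1] at h0
  obtain ⟨ψ, hψ⟩ := h0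
  obtain ⟨θ, hθ⟩ := CotTLib.lifts_extOf φ
  obtain ⟨θ', hθ'⟩ := CotTLib.lifts_add hθ (φ' := φ') hψ.symm
  obtain ⟨e⟩ := CotTLib.nonempty_equiv_extOf hθ'
  obtain ⟨f⟩ := ofExt_iso (Λ := Λ) e
  exact (Quotient.sound (s := DefSch.setoid _ _ _) ⟨f.toSch⟩).symm

theorem phiDef_surjective (z : (F).obj (Art.dual Λ k)) :
    ∃ φ : P.toExtension.Cotangent →ₗ[B] B, (phiDef P Λ φ).toSch.cl = z := by
  obtain ⟨D, rfl⟩ := exists_cl_eq z
  obtain ⟨X, ⟨f⟩⟩ := exists_ofExt D
  obtain ⟨θ, φ, hθ⟩ := CotTLib.exists_lifts (P := P) (X := X)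
  obtain ⟨e⟩ := CotTLib.nonempty_equiv_extOf hθ
  obtain ⟨f'⟩ := ofExt_iso (Λ := Λ) e
  exact ⟨φ, Quotient.sound ⟨f'.toSch.trans f.toSch⟩⟩

theorem hfin_of_finite [T : TangentStr (F)]
    (hfin : Module.Finite k ((P.toExtension.Cotangent →ₗ[B] B) ⧸ (LinearMap.ker (CotT.homToT1 P B)))) :
    Hfin (F) := by
  let L : (P.toExtension.Cotangent →ₗ[B] B) →ₗ[k] TangentSpace (F) :=
    { toFun := fun φ => TangentSpace.mk (phiDef P Λ φ).toSch.cl
      map_add' := fun φ ψ => by
        obtain ⟨z, h1, h2, h3⟩ := exists_plus (Λ := Λ) P φ ψ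
        show (phiDef P Λ (φ + ψ)).toSch.cl = _
        rw [← h3, ← h1, ← h2]
        exact (T.add_eq z).symm
      map_smul' := fun c φ => by
        show (phiDef P Λ (c • φ)).toSch.cl = _
        rw [← map_scale]
        exact (T.smul_eq c _).symm }
  let L' := ((LinearMap.ker (CotT.homToT1 P B)).restrictScalars k).liftQ L (fun φ hφ => by
    rw [LinearMap.mem_ker]
    have h : L φ = L 0 := phiDef_congr P (by rw [LinearMap.mem_ker.mp hφ, map_zero])
    rw [h, map_zero])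
  haveI : Module.Finite k ((P.toExtension.Cotangent →ₗ[B] B) ⧸ (LinearMap.ker (CotT.homToT1 P B)).restrictScalars k) :=
    Module.Finite.equiv (Submodule.Quotient.restrictScalarsEquiv k (LinearMap.ker (CotT.homToT1 P B))).symm
  refine Module.Finite.of_surjective L' fun z => ?_
  obtain ⟨φ, hφ⟩ := phiDef_surjective (Λ := Λ) P z
  exact ⟨Submodule.Quotient.mk φ, hφ⟩

end Groth.Agent.DefSchLib
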