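import Mathlib
import Groth.Agent.DefSchLib.Tangent
import Groth.Agent.ArtFunLib.Tangent

/-! Finiteness of the tangent space at isolated singularities and transport along isomorphisms of `X`. -/

set_option autoImplicit false

noncomputable section

universe u

open CategoryTheory CategoryTheory.Limits AlgebraicGeometry IsLocalRing

namespace Groth.Agent.DefSchLib

open ArtFun ArtFun.Art

variable {Λ k : Type u} [CommRing Λ] [Field k] [Algebra Λ k]

theorem finite_quotient_of_finite_zeroLocus {B : Type u} [CommRing B] [Algebra k B] [Algebra.FiniteType k B]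
    (J : Ideal B) (h : (PrimeSpectrum.zeroLocus (J : Set B)).Finite) : Module.Finite k (B ⧸ J) := by
  haveI : IsJacobsonRing (B ⧸ J) := isJacobsonRing_of_finiteType (A := k)
  haveI : Finite (PrimeSpectrum (B ⧸ J)) := by
    haveI := h.to_subtype
    refine Finite.of_injective (β := PrimeSpectrum.zeroLocus (J : Set B))
      (fun q => ⟨PrimeSpectrum.comap (Ideal.Quotient.mk J) q, fun a ha => ?_⟩) fun p q hpq => ?_
    · show Ideal.Quotient.mk J a ∈ q.asIdeal
      rw [Ideal.Quotient.eq_zero_iff_mem.mpr ha]
      exact zero_mem _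
    · exact PrimeSpectrum.comap_injective_of_surjective _ Ideal.Quotient.mk_surjective (congrArg Subtype.val hpq)
  haveI : Ring.KrullDimLE 0 (B ⧸ J) :=
    ((PrimeSpectrum.discreteTopology_iff_finite_and_krullDimLE_zero).mp inferInstance).2
  haveI : IsNoetherianRing B := Algebra.FiniteType.isNoetherianRing k B
  exact (Module.finite_iff_isArtinianRing k (B ⧸ J)).mpr (isArtinianRing_iff_krullDimLE_zero.mpr inferInstance)

theorem exists_finite_tangent {B : Type u} [CommRing B] [Algebra k B] [Algebra.FiniteType k B]
    (hfin : (Algebra.smoothLocus k B)ᶜ.Finite) :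
    ∃ (ι σ : Type u) (P : Algebra.Presentation k B ι σ),
      Module.Finite k ((P.toExtension.Cotangent →ₗ[B] B) ⧸ (LinearMap.ker (CotT.homToT1 P B))) := by
  haveI : IsNoetherianRing B := Algebra.FiniteType.isNoetherianRing k B
  obtain ⟨N, f, hf⟩ := Algebra.FiniteType.iff_quotient_mvPolynomial''.1 (inferInstance : Algebra.FiniteType k B)
  let G : Algebra.Generators k B (ULift.{u} (Fin N)) := Algebra.Generators.ofSurjective (fun i => f (MvPolynomial.X i.down)) (by
    intro b
    obtain ⟨p, rfl⟩ := hf b
    refine ⟨MvPolynomial.rename ULift.up p, ?_⟩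
    rw [MvPolynomial.aeval_rename]
    exact (AlgHom.congr_fun (MvPolynomial.aeval_unique f) p).symm)
  let P : Algebra.Presentation k B (ULift.{u} (Fin N)) G.ker :=
    { toGenerators := G, relation := fun r => r,
      span_range_relation_eq_ker := by rw [Subtype.range_coe_subtype]; exact Ideal.span_eq G.ker }
  refine ⟨_, _, P, ?_⟩
  haveI : IsNoetherianRing P.toExtension.Ring := inferInstanceAs (IsNoetherianRing (MvPolynomial (ULift.{u} (Fin N)) k))
  haveI : Module.Finite P.toExtension.Ring P.toExtension.Cotangent :=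
    Module.Finite.of_surjective Algebra.Extension.Cotangent.mk Algebra.Extension.Cotangent.mk_surjective
  haveI : Module.Finite B P.toExtension.Cotangent := Module.Finite.of_restrictScalars_finite P.toExtension.Ring B _
  let J : Ideal B := (CotTLib.retract P).map (algebraMap P.toExtension.Ring B)
  haveI : Module.Finite k (B ⧸ J) := finite_quotient_of_finite_zeroLocus J (hfin.subset fun q hq hsm =>
    (CotTLib.smoothLocus_mem_iff P q).mp hsm (Ideal.map_le_iff_le_comap.mp hq))
  set Q := (P.toExtension.Cotangent →ₗ[B] B) ⧸ (LinearMap.ker (CotT.homToT1 P B))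
  have htor : Module.IsTorsionBySet B Q J := by
    rintro z ⟨a, ha⟩
    induction z using Submodule.Quotient.induction_on with
    | _ φ =>
      obtain ⟨s, hs, rfl⟩ := (Ideal.mem_map_iff_of_surjective _ (CotTLib.surjective_algebraMap P)).mp ha
      show algebraMap P.toExtension.Ring B s • Submodule.Quotient.mk φ = 0
      rw [← Submodule.Quotient.mk_smul, Submodule.Quotient.mk_eq_zero, LinearMap.mem_ker, map_smul]
      exact CotTLib.smul_T1_eq_zero_of_mem_retract P hs _ _
  haveI : Module.Finite B (P.toExtension.Cotangent →ₗ[B] B) := inferInstance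
  letI := htor.module
  haveI : IsScalarTower B (B ⧸ J) Q := htor.isScalarTower
  haveI : IsScalarTower k (B ⧸ J) Q := ⟨fun c y z => by
    obtain ⟨y, rfl⟩ := Ideal.Quotient.mk_surjective y
    show (Ideal.Quotient.mk J (c • y)) • z = c • (Ideal.Quotient.mk J y • z)
    show (c • y) • z = c • (y • z)
    exact smul_assoc c y z⟩
  haveI : Module.Finite (B ⧸ J) Q := Module.Finite.of_restrictScalars_finite B _ _
  exact Module.Finite.trans (B ⧸ J) Q

theorem mem_smoothLocus_of_smooth {B : Type u} [CommRing B] [Algebra k B] [Algebra.FiniteType k B]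
    (V : (Spec (CommRingCat.of B)).Opens) (h : Smooth (V.ι ≫ base0 (k := k) B)) :
    ∀ q : PrimeSpectrum B, q ∈ V.carrier → q ∈ Algebra.smoothLocus k B := by
  haveI : Algebra.FinitePresentation k B := Algebra.FinitePresentation.of_finiteType.1 inferInstance
  intro q hq
  obtain ⟨_, ⟨f, rfl⟩, hqf, hfV⟩ :=
    (PrimeSpectrum.isTopologicalBasis_basic_opens (R := B)).exists_subset_of_mem_open hq V.is_open'
  refine Algebra.basicOpen_subset_smoothLocus_iff_smooth.mpr ?_ hqf
  let Bf := Localization.Away f
  let j : Spec (CommRingCat.of Bf) ⟶ Spec (CommRingCat.of B) := Spec.map (CommRingCat.ofHom (algebraMap B Bf))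
  haveI : IsOpenImmersion j := IsOpenImmersion.of_isLocalization f
  have hj : Set.range j ⊆ Set.range V.ι := by
    rw [Scheme.Opens.range_ι]
    refine subset_trans ?_ hfV
    exact (PrimeSpectrum.localization_away_comap_range Bf f).subset
  have hfac := IsOpenImmersion.lift_fac V.ι j hj
  haveI : IsOpenImmersion (IsOpenImmersion.lift V.ι j hj ≫ V.ι) := by rw [hfac]; infer_instance
  haveI : IsOpenImmersion (IsOpenImmersion.lift V.ι j hj) := IsOpenImmersion.of_comp _ V.ι
  have : Smooth (IsOpenImmersion.lift V.ι j hj ≫ V.ι ≫ base0 (k := k) B) := by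
    haveI := h
    infer_instance
  rw [← Category.assoc, hfac, show j ≫ base0 (k := k) B =
      Spec.map (CommRingCat.ofHom (algebraMap k Bf)) by
    show Spec.map _ ≫ Spec.map _ = _
    rw [← Spec.map_comp, ← CommRingCat.ofHom_comp, ← IsScalarTower.algebraMap_eq]] at this
  exact RingHom.smooth_algebraMap.mp ((HasRingHomProperty.Spec_iff (P := @Smooth)).mp this)

section Transport

variable {X' X : Scheme.{u}} {x' : X' ⟶ specPt k} {x : X ⟶ specPt k}

/-- Transport of a deformation along an isomorphism of the closed fibre. -/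
def transport (e : X' ≅ X) (he : e.hom ≫ x = x') {A : Art Λ k} (ξ : DefSch X x A) : DefSch X' x' A where
  total := ξ.total
  f := ξ.f
  flat := ξ.flat
  i := e.hom ≫ ξ.i
  isPullback := ξ.isPullback.of_iso e.symm (CategoryTheory.Iso.refl _) (CategoryTheory.Iso.refl _)
    (CategoryTheory.Iso.refl _) (by simp) (by simp [← he]) (by simp) (by simp)

def transportIso (e : X' ≅ X) (he : e.hom ≫ x = x') {A : Art Λ k} {ξ ξ' : DefSch X x A} (φ : DefSch.Iso ξ ξ') :
    DefSch.Iso (transport e he ξ) (transport e he ξ') where
  iso := φ.iso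
  hom_f := φ.hom_f
  i_hom := by
    show (e.hom ≫ ξ.i) ≫ φ.iso.hom = e.hom ≫ ξ'.i
    rw [Category.assoc, φ.i_hom]

def transportBaseChange (e : X' ≅ X) (he : e.hom ≫ x = x') {A B : Art Λ k} (g : A ⟶ B) (ξ : DefSch X x A) :
    DefSch.Iso (transport e he (ξ.baseChange g)) ((transport e he ξ).baseChange g) where
  iso := CategoryTheory.Iso.refl _
  hom_f := Category.id_comp _
  i_hom := by
    refine (Category.comp_id _).trans ?_
    show e.hom ≫ (ξ.baseChange g).i = ((transport e he ξ).baseChange g).i
    apply pullback.hom_ext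
    · refine ((Category.assoc _ _ _).trans (congrArg (e.hom ≫ ·) (DefSch.baseChange_i_fst ξ g))).trans ?_
      exact (DefSch.baseChange_i_fst (transport e he ξ) g).symm
    · refine ((Category.assoc _ _ _).trans (congrArg (e.hom ≫ ·) (DefSch.baseChange_i_f ξ g))).trans ?_
      refine Eq.trans ?_ (DefSch.baseChange_i_f (transport e he ξ) g).symm
      rw [← Category.assoc, he]

variable (Λ) in
/-- The map of deformation functors induced by an isomorphism of the closed fibre. -/
def transportMap (e : X' ≅ X) (he : e.hom ≫ x = x') (A : Art Λ k) :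
    (defFunctor X x).obj A → (defFunctor X' x').obj A :=
  Quotient.map' (transport e he) fun _ _ ⟨φ⟩ => ⟨transportIso e he φ⟩

theorem transportMap_natural (e : X' ≅ X) (he : e.hom ≫ x = x') {A B : Art Λ k} (g : A ⟶ B)
    (z : (defFunctor X x).obj A) :
    transportMap Λ e he B ((defFunctor X x).map g z) = (defFunctor X' x').map g (transportMap Λ e he A z) := by
  induction z using Quotient.inductionOn with
  | h ξ => exact Quotient.sound ⟨transportBaseChange e he g ξ⟩

theorem transportMap_bijective (e : X' ≅ X) (he : e.hom ≫ x = x') (A : Art Λ k) :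
    Function.Bijective (transportMap Λ e he A) := by
  have he' : e.symm.hom ≫ x' = x := by rw [← he, CategoryTheory.Iso.symm_hom, Iso.inv_hom_id_assoc]
  constructor
  · intro a b hab
    induction a using Quotient.inductionOn with
    | h ξ => induction b using Quotient.inductionOn with
      | h η =>
        obtain ⟨φ⟩ := Quotient.exact hab
        refine Quotient.sound ⟨⟨φ.iso, φ.hom_f, ?_⟩⟩
        have h1 : (e.hom ≫ ξ.i) ≫ φ.iso.hom = e.hom ≫ η.i := φ.i_hom
        rw [Category.assoc] at h1
        exact (cancel_epi e.hom).mp h1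
  · intro b
    induction b using Quotient.inductionOn with
    | h η =>
      refine ⟨(transport e.symm he' η).cl, Quotient.sound ⟨⟨CategoryTheory.Iso.refl _, Category.id_comp _, ?_⟩⟩⟩
      show (e.hom ≫ e.inv ≫ η.i) ≫ 𝟙 _ = η.i
      rw [Category.comp_id, Iso.hom_inv_id_assoc]

theorem hasHull_transport (e : X' ≅ X) (he : e.hom ≫ x = x') (h : HasHull (defFunctor (Λ := Λ) X x)) :
    HasHull (defFunctor (Λ := Λ) X' x') := by
  obtain ⟨H⟩ := h
  refine ⟨⟨H.ring, ⟨fun A φ => transportMap Λ e he A (H.family.app A φ), fun {A B} f φ => ?_⟩, ?_, ?_⟩⟩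
  · rw [← transportMap_natural, H.family.natural]
  · intro B A μ hμ φ y hy
    obtain ⟨y, rfl⟩ := (transportMap_bijective e he B).2 y
    have hy' : transportMap Λ e he A ((defFunctor X x).map μ y) = transportMap Λ e he A (H.family.app A φ) :=
      (transportMap_natural e he μ y).trans hy
    obtain ⟨ψ, h1, h2⟩ := H.miniversal.1 μ hμ φ y ((transportMap_bijective e he A).1 hy')
    exact ⟨ψ, h1, congrArg (transportMap Λ e he B) h2⟩
  · exact (transportMap_bijective e he _).comp H.miniversal.2

end Transport

end Groth.Agent.DefSchLib
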