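import Mathlib
import Groth.Agent.ArtFunLib.Basic
import Groth.Agent.DefSchLib.Fibre
import Groth.Agent.DefSchLib.LCIRel

/-! Deformations of an affine local complete intersection lift along small extensions. -/

set_option autoImplicit false

noncomputable section

universe u

open CategoryTheory AlgebraicGeometry IsLocalRing

namespace Groth.Agent.DefSchLib

open ArtFun ArtFun.Art CotTLib

variable {Λ k : Type u} [CommRing Λ] [Field k] [Algebra Λ k] {B₀ : Type u} [CommRing B₀] [Algebra k B₀]
variable {n : ℕ}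

/-- The polynomial ring as a lift of the polynomial ring. -/
def polyDef (A : Art Λ k) (n : ℕ) : RingDef (MvPolynomial (Fin n) k) A where
  R := MvPolynomial (Fin n) A
  str := MvPolynomial.C
  flat := (RingHom.flat_algebraMap_iff.mpr (inferInstance : Module.Flat A (MvPolynomial (Fin n) A)) :
    (algebraMap A (MvPolynomial (Fin n) A)).Flat)
  π := MvPolynomial.map (A.res : A →+* k)
  π_surjective := MvPolynomial.map_surjective _ A.res_surjective
  π_str a := MvPolynomial.map_C _ a
  ker_π := by rw [MvPolynomial.ker_map, RingDef.ker_res]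

/-- A lift of a basis of the polynomial ring over the field is a basis over the object. -/
theorem poly_lift_basis (A : Art Λ k) {ι : Type u} (b : Module.Basis ι k (MvPolynomial (Fin n) k))
    (V : ι → MvPolynomial (Fin n) A) (hV : ∀ s, MvPolynomial.map (A.res : A →+* k) (V s) = b s) :
    LinearIndependent A V ∧ ∀ z, ∃ c : ι →₀ A, Finsupp.linearCombination A V c = z := by
  let D := polyDef A n
  have hs : ∀ (a : A) (z : MvPolynomial (Fin n) A), a • z = MvPolynomial.C a * z := fun a z =>
    MvPolynomial.smul_eq_C_mul z a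
  refine ⟨?_, fun z => ?_⟩
  · rw [linearIndependent_iff']
    intro s g hg i hi
    simp only [hs] at hg
    letI : Algebra A D.R := D.str.toAlgebra
    exact linearIndependent_iff'.mp (D.linearIndependent_lift b V hV) s g hg i hi
  · letI : Algebra A D.R := D.str.toAlgebra
    let z' : D.R := z
    let V' : ι → D.R := V
    obtain ⟨c, hc⟩ := Finsupp.mem_span_range_iff_exists_finsupp.mp
      ((D.span_lift b V' hV).ge (Submodule.mem_top (R := A) (M := D.R) (x := z')))
    refine ⟨c, ?_⟩
    rw [Finsupp.linearCombination_apply]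
    exact Eq.trans (Finset.sum_congr rfl fun j _ => hs (c j) (V j)) hc

theorem lc_sumElim {R M α β : Type*} [Semiring R] [AddCommMonoid M] [Module R M] (v : α → M) (w : β → M)
    (a : α →₀ R) (c : β →₀ R) : Finsupp.linearCombination R (Sum.elim v w) (Finsupp.sumElim a c) =
      Finsupp.linearCombination R v a + Finsupp.linearCombination R w c := by
  rw [Finsupp.sumElim_eq_add, map_add, Finsupp.linearCombination_mapDomain, Finsupp.linearCombination_mapDomain]
  rfl

/-- Relations property of generators of the ideal of a presentation. -/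
def RelProp {m : ℕ} (π₀ : MvPolynomial (Fin n) k →ₐ[k] B₀) (f : Fin m → MvPolynomial (Fin n) k) : Prop :=
  (∀ q : Fin m →₀ MvPolynomial (Fin n) k, Finsupp.linearCombination _ f q = 0 →
      (∀ i, q i ∈ RingHom.ker π₀) → q ∈ trivR f) ∧
  ∃ r : Fin m → (Fin m →₀ MvPolynomial (Fin n) k), (∀ i, Finsupp.linearCombination _ f (r i) = 0) ∧
    ∀ q : Fin m →₀ MvPolynomial (Fin n) k, Finsupp.linearCombination _ f q = 0 →
      ∀ i, (Finsupp.linearCombination _ r q - q) i ∈ RingHom.ker π₀

theorem exists_lift_small {A' A : Art Λ k} (μ : A' ⟶ A) (hμ : Function.Surjective μ) (t : A')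
    (ht0 : t ≠ 0) (htm : ∀ a ∈ maximalIdeal A', a * t = 0) (hker : RingHom.ker μ.toAlgHom = Ideal.span {t})
    {m : ℕ} (π₀ : MvPolynomial (Fin n) k →ₐ[k] B₀) (hπ₀ : Function.Surjective π₀)
    (f : Fin m → MvPolynomial (Fin n) k) (hf : Ideal.span (Set.range f) = RingHom.ker π₀)
    (hrel : RelProp π₀ f) (D : RingDef B₀ A) :
    ∃ D' : RingDef B₀ A', Nonempty (Hom μ D' D) := by
  classical
  let P := MvPolynomial (Fin n) A'
  let ρ : P →+* MvPolynomial (Fin n) k := MvPolynomial.map (A'.res : A' →+* k)
  have hρ : Function.Surjective ρ := MvPolynomial.map_surjective _ A'.res_surjective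
  let π : P →+* B₀ := π₀.toRingHom.comp ρ
  choose x hx using fun j => D.π_surjective (π₀ (MvPolynomial.X j))
  let ev : P →+* D.R := MvPolynomial.eval₂Hom (D.str.comp μ.toAlgHom.toRingHom) x
  have hevC : ∀ a, ev (MvPolynomial.C a) = D.str (μ a) := fun a => MvPolynomial.eval₂Hom_C _ _ a
  have hπev : ∀ p, D.π (ev p) = π p := by
    have h : D.π.comp ev = π := MvPolynomial.ringHom_ext (fun a => by
        show D.π (ev (MvPolynomial.C a)) = π₀ (ρ (MvPolynomial.C a))
        rw [hevC, D.π_str, MvPolynomial.map_C]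
        exact (congrArg _ (res_app μ a)).trans (π₀.commutes (A'.res a)).symm) (fun j => by
        show D.π (ev (MvPolynomial.X j)) = π₀ (ρ (MvPolynomial.X j))
        rw [MvPolynomial.eval₂Hom_X', hx, MvPolynomial.map_X])
    exact fun p => RingHom.congr_fun h p
  let b := Module.Basis.ofVectorSpace k B₀
  choose u hu using fun i => hπ₀ (b i)
  choose p hp using fun i => hρ (u i)
  let I₀ := (RingHom.ker π₀).restrictScalars k
  let g := Module.Basis.ofVectorSpace k I₀
  have hgf : ∀ l, ∃ e : Fin m →₀ MvPolynomial (Fin n) k, Finsupp.linearCombination _ f e = (g l : MvPolynomial (Fin n) k) := by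
    intro l
    rw [← LinearMap.mem_range, Finsupp.range_linearCombination]
    exact (le_of_eq hf.symm) (g l).2
  choose e he using hgf
  -- the basis of the polynomial ring over the field
  let bb := Module.Basis.ofVectorSpace k (MvPolynomial (Fin n) k)
  have hπF : ∀ z : P, π z = 0 → ∃ z', ρ z' = ρ z ∧ ev z' = 0 := by
    intro z hz
    letI := D.str.toAlgebra
    have h1 : ev z ∈ (maximalIdeal A • ⊤ : Submodule A D.R) := RingDef.mem_of_π_eq_zero D (by rw [hπev]; exact hz)
    suffices h : ∀ w ∈ (maximalIdeal A • ⊤ : Submodule A D.R), w ∈ Set.range ev → ∃ z₁, ρ z₁ = 0 ∧ ev z₁ = w by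
      obtain ⟨z₁, hz₁, hz₁'⟩ := h _ h1 ⟨z, rfl⟩
      exact ⟨z - z₁, by rw [map_sub, hz₁, sub_zero], by rw [map_sub, hz₁', sub_self]⟩
    have hsurj : Function.Surjective ev := by
      let N : Submodule A D.R :=
        { carrier := Set.range ev
          zero_mem' := ⟨0, map_zero _⟩
          add_mem' := fun {a b} ⟨p, hp⟩ ⟨q, hq⟩ => ⟨p + q, by rw [map_add, hp, hq]⟩
          smul_mem' := fun a r ⟨q, hq⟩ => by
            obtain ⟨a', rfl⟩ := hμ a
            exact ⟨MvPolynomial.C a' * q, by rw [map_mul, hevC, hq]; rfl⟩ }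
      have hN : N = ⊤ := eq_top_of_sup_smul_eq_top (maximalIdeal_isNilpotent A) (top_le_iff.mp fun r _ => by
        obtain ⟨v, hv⟩ := hπ₀ (D.π r)
        obtain ⟨q, rfl⟩ := hρ v
        rw [← sub_add_cancel r (ev q), add_comm]
        exact Submodule.add_mem_sup ⟨q, rfl⟩ (RingDef.mem_of_π_eq_zero D (by
          rw [map_sub, hπev]
          exact sub_eq_zero.mpr hv.symm)))
      exact fun r => (hN ▸ Submodule.mem_top : r ∈ N)
    intro w hw _
    induction hw using Submodule.smul_induction_on' with
    | smul a ha r _ =>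
      obtain ⟨a', rfl⟩ := hμ a
      obtain ⟨q, rfl⟩ := hsurj r
      refine ⟨MvPolynomial.C a' * q, ?_, by rw [map_mul, hevC]; rfl⟩
      rw [map_mul, MvPolynomial.map_C]
      have : A'.res a' = 0 := by rw [← res_app μ a']; exact (A.mem_maximalIdeal_iff _).mp ha
      rw [show (A'.res : A' →+* k) a' = 0 from this, map_zero, zero_mul]
    | add v hv w hw ihv ihw =>
      obtain ⟨z₁, h1, h1'⟩ := ihv (hsurj v)
      obtain ⟨z₂, h2, h2'⟩ := ihw (hsurj w)
      exact ⟨z₁ + z₂, by rw [map_add, h1, h2, add_zero], by rw [map_add, h1', h2']⟩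
  have hfker : ∀ i, π₀ (f i) = 0 := fun i => (le_of_eq hf) (Ideal.subset_span ⟨i, rfl⟩)
  choose F₀ hF₀ using fun i => hρ (f i)
  choose F hF₁ hF₂ using fun i => hπF (F₀ i) (by show π₀ (ρ (F₀ i)) = 0; rw [hF₀, hfker])
  have hF : ∀ i, ρ (F i) = f i := fun i => (hF₁ i).trans (hF₀ i)
  choose E hE using fun (l : Module.Basis.ofVectorSpaceIndex k I₀) (i : Fin m) => hρ (e l i)
  let G : _ → P := fun l => ∑ i, E l i * F i
  have hG : ∀ l, ρ (G l) = (g l : MvPolynomial (Fin n) k) := fun l => by
    rw [← he l, map_sum, Finsupp.linearCombination_apply, Finsupp.sum_fintype _ _ (by simp)]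
    exact Finset.sum_congr rfl fun i _ => by rw [map_mul, hE, hF, smul_eq_mul]
  have hGev : ∀ l, ev (G l) = 0 := fun l => by
    rw [map_sum]
    exact Finset.sum_eq_zero fun i _ => by rw [map_mul, hF₂, mul_zero]
  -- combined basis of the polynomial ring over `A'`
  let v₀ : (Module.Basis.ofVectorSpaceIndex k B₀) ⊕ (Module.Basis.ofVectorSpaceIndex k I₀) → MvPolynomial (Fin n) k :=
    Sum.elim u (fun l => (g l : MvPolynomial (Fin n) k))
  have hv₀li : LinearIndependent k v₀ := by
    rw [linearIndependent_iff]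
    intro c hc
    obtain ⟨c₁, c₂, rfl⟩ : ∃ c₁ c₂, c = Finsupp.sumElim c₁ c₂ :=
      ⟨_, _, ((Finsupp.sumFinsuppEquivProdFinsupp).symm_apply_apply c).symm⟩
    rw [lc_sumElim, Finsupp.linearCombination_apply, Finsupp.linearCombination_apply] at hc
    · have h1 : π₀ (c₁.sum fun i a => a • u i) + π₀ (c₂.sum fun l a => a • (g l : MvPolynomial (Fin n) k)) = 0 := by
        rw [← map_add]
        exact (congrArg π₀ hc).trans (map_zero _)
      rw [map_finsuppSum, map_finsuppSum] at h1
      have h2 : (c₂.sum fun l a => π₀ (a • (g l : MvPolynomial (Fin n) k))) = 0 := Finset.sum_eq_zero fun l _ => by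
        show π₀ _ = 0
        rw [map_smul, show π₀ (g l : MvPolynomial (Fin n) k) = 0 from (g l).2, smul_zero]
      rw [h2, add_zero] at h1
      simp only [map_smul, hu] at h1
      have hc₁ : c₁ = 0 := linearIndependent_iff.mp b.linearIndependent c₁ h1
      subst hc₁
      rw [Finsupp.sum_zero_index, zero_add] at hc
      have hc₂ : c₂ = 0 := linearIndependent_iff.mp g.linearIndependent c₂ (Subtype.ext (by
        rw [Finsupp.linearCombination_apply]
        simp only [Finsupp.sum, AddSubmonoidClass.coe_finsetSum, SetLike.val_smul]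
        exact hc))
      subst hc₂
      ext (i | i) <;> rfl
  have hv₀sp : ⊤ ≤ Submodule.span k (Set.range v₀) := fun z _ => by
    let c := b.repr (π₀ z)
    have h1 : z - c.sum (fun i a => a • u i) ∈ I₀ := by
      show π₀ _ = 0
      rw [map_sub, map_finsuppSum, sub_eq_zero]
      simp only [map_smul, hu]
      exact (b.linearCombination_repr (π₀ z)).symm
    rw [← sub_add_cancel z (c.sum fun i a => a • u i)]
    refine add_mem ?_ (Submodule.sum_mem _ fun i _ => Submodule.smul_mem _ _ (Submodule.subset_span ⟨.inl i, rfl⟩))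
    have h2 : (⟨_, h1⟩ : I₀) ∈ Submodule.span k (Set.range g) := g.span_eq ▸ Submodule.mem_top
    have h3 := Submodule.mem_map_of_mem (f := I₀.subtype) h2
    rw [Submodule.map_span] at h3
    refine Submodule.span_mono ?_ h3
    rintro _ ⟨_, ⟨l, rfl⟩, rfl⟩
    exact ⟨.inr l, rfl⟩
  let b₀ : Module.Basis _ k (MvPolynomial (Fin n) k) := Module.Basis.mk hv₀li hv₀sp
  let V : (Module.Basis.ofVectorSpaceIndex k B₀) ⊕ (Module.Basis.ofVectorSpaceIndex k I₀) → P := Sum.elim p G
  have hV : ∀ s, ρ (V s) = b₀ s := by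
    rintro (i | l)
    · rw [Module.Basis.mk_apply]; exact hp i
    · rw [Module.Basis.mk_apply]; exact hG l
  -- decomposition of polynomials
  have hsmul : ∀ (a : A') (z : P), a • z = MvPolynomial.C a * z := fun a z => MvPolynomial.smul_eq_C_mul z a
  have hVindep : LinearIndependent A' V := (poly_lift_basis A' b₀ V hV).1
  have hdec : ∀ z : P, ∃ (a : _ →₀ A') (c : _ →₀ A'),
      z = Finsupp.linearCombination A' p a + Finsupp.linearCombination A' G c := by
    intro z
    obtain ⟨c, hc⟩ := (poly_lift_basis A' b₀ V hV).2 z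
    obtain ⟨c₁, c₂, rfl⟩ : ∃ c₁ c₂, c = Finsupp.sumElim c₁ c₂ :=
      ⟨_, _, ((Finsupp.sumFinsuppEquivProdFinsupp).symm_apply_apply c).symm⟩
    rw [lc_sumElim] at hc
    exact ⟨c₁, c₂, hc.symm⟩
  have huniq : ∀ (a : _ →₀ A') (c : _ →₀ A'),
      Finsupp.linearCombination A' p a + Finsupp.linearCombination A' G c = 0 → a = 0 ∧ c = 0 := by
    intro a c h
    have h1 : Finsupp.sumElim a c = 0 := linearIndependent_iff.mp hVindep _ (by
      rw [lc_sumElim]
      exact h)
    exact ⟨Finsupp.ext fun i => DFunLike.congr_fun h1 (Sum.inl i), Finsupp.ext fun i => DFunLike.congr_fun h1 (Sum.inr i)⟩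
  have htdvd : ∀ a : A', μ a = 0 → ∃ d, a = t * d := fun a ha => by
    obtain ⟨d, hd⟩ := Ideal.mem_span_singleton.mp ((le_of_eq hker) (RingHom.mem_ker.mpr ha))
    exact ⟨d, hd⟩
  have htmem : ∀ d : A', t * d = 0 → d ∈ maximalIdeal A' := fun d hd => fun hu =>
    ht0 (hu.mul_left_eq_zero.mp hd)
  let T : P := MvPolynomial.C t
  have hρT : ∀ z, ρ (T * z) = 0 := fun z => by
    have : A'.res t = 0 := by
      rw [← res_app μ t, show μ t = 0 from RingHom.mem_ker.mp (hker ▸ Ideal.mem_span_singleton_self t), map_zero]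
    rw [map_mul, MvPolynomial.map_C, show (A'.res : A' →+* k) t = 0 from this, map_zero, zero_mul]
  have hevT : ∀ z, ev (T * z) = 0 := fun z => by
    rw [map_mul, hevC, show μ t = 0 from RingHom.mem_ker.mp (hker ▸ Ideal.mem_span_singleton_self t), map_zero, zero_mul]
  have hTT : ∀ z, T * (T * z) = 0 := fun z => by
    rw [← mul_assoc, ← map_mul, htm t (fun hu => ?_), map_zero, zero_mul]
    have h2 := hu.map μ.toAlgHom
    rw [show μ.toAlgHom t = 0 from RingHom.mem_ker.mp (hker ▸ Ideal.mem_span_singleton_self t)] at h2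
    exact not_isUnit_zero h2
  have hTρ : ∀ z, ρ z = 0 → T * z = 0 := fun z hz => by
    have h1 : z ∈ (maximalIdeal A').map (MvPolynomial.C : A' →+* P) := by
      rw [← RingDef.ker_res, ← MvPolynomial.ker_map]; exact hz
    refine MvPolynomial.ext _ _ fun d => ?_
    rw [MvPolynomial.coeff_C_mul, mul_comm, MvPolynomial.coeff_zero]
    exact htm _ (MvPolynomial.mem_map_C_iff.mp h1 d)
  -- kernel of evaluation
  have hIz : ∀ z, ev z = 0 → ∃ (c : _ →₀ A') (w : P), z = Finsupp.linearCombination A' G c + T * w := by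
    intro z hz
    obtain ⟨a, c, rfl⟩ := hdec z
    letI := D.str.toAlgebra
    have hli := D.linearIndependent_lift b (fun i => ev (p i)) fun i => by
      rw [hπev]; show π₀ (ρ (p i)) = b i; rw [hp, hu]
    rw [map_add, Finsupp.linearCombination_apply, Finsupp.linearCombination_apply, map_finsuppSum, map_finsuppSum] at hz
    simp only [hsmul, map_mul, hevC, hGev, mul_zero, Finsupp.sum, Finset.sum_const_zero, add_zero] at hz
    have ha : ∀ i ∈ a.support, ∃ d, a i = t * d := fun i hi => htdvd _
      (linearIndependent_iff'.mp hli a.support (fun i => μ (a i)) hz i hi)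
    choose d hd using ha
    refine ⟨c, ∑ i ∈ a.support.attach, MvPolynomial.C (d i.1 i.2) * p i.1, ?_⟩
    rw [add_comm]
    refine congrArg₂ (· + ·) rfl ?_
    rw [Finsupp.linearCombination_apply, Finsupp.sum, Finset.mul_sum, ← Finset.sum_attach]
    exact Finset.sum_congr rfl fun i _ => by rw [hsmul, hd i.1 i.2, map_mul, mul_assoc]
  -- multiples of `t` among combinations of generators with small coefficients
  have hsmall : ∀ (M : Fin m → P) (w : P), (∀ i, ρ (M i) = 0) → ∑ i, M i * F i = T * w → π w = 0 := by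
    intro M w hM hMw
    have hin : ∀ i, ∀ z ∈ (maximalIdeal A').map (MvPolynomial.C : A' →+* P), ∀ y : P,
        y * z * F i ∈ Submodule.span A' (Set.range G) := by
      intro i z hz
      induction hz using Submodule.span_induction with
      | mem z hz =>
        obtain ⟨a, ha, rfl⟩ := hz
        intro y
        obtain ⟨c, w', hc⟩ := hIz (y * F i) (by rw [map_mul, hF₂, mul_zero])
        rw [mul_right_comm, hc, mul_comm, mul_add, ← hsmul]
        refine add_mem (Submodule.smul_mem _ _ ((Finsupp.range_linearCombination (R := A') (v := G)).le ⟨c, rfl⟩)) ?_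
        rw [show MvPolynomial.C a * (T * w') = MvPolynomial.C (a * t) * w' by rw [← mul_assoc, ← map_mul],
          htm a ha, map_zero, zero_mul]
        exact zero_mem _
      | zero => intro y; rw [mul_zero, zero_mul]; exact zero_mem _
      | add z z' _ _ h h' => intro y; rw [mul_add, add_mul]; exact add_mem (h y) (h' y)
      | smul r z _ h => intro y; rw [smul_eq_mul, ← mul_assoc]; exact h _
    have h1 : T * w ∈ Submodule.span A' (Set.range G) := by
      rw [← hMw]
      refine Submodule.sum_mem _ fun i _ => ?_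
      have h2 := hin i (M i) (by rw [← RingDef.ker_res, ← MvPolynomial.ker_map]; exact hM i) 1
      rwa [one_mul] at h2
    rw [← Finsupp.range_linearCombination] at h1
    obtain ⟨c', hc'⟩ := h1
    obtain ⟨a, c, rfl⟩ := hdec w
    have h3 : Finsupp.linearCombination A' p (t • a) + Finsupp.linearCombination A' G (t • c - c') = 0 := by
      rw [map_sub, hc', map_smul, map_smul, hsmul, hsmul, mul_add]
      abel
    have h4 := (huniq _ _ h3).1
    show π₀ (ρ _) = 0
    rw [map_add, map_add]
    have h5 : ρ (Finsupp.linearCombination A' p a) = 0 := by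
      rw [Finsupp.linearCombination_apply, map_finsuppSum]
      refine Finset.sum_eq_zero fun i _ => ?_
      show ρ _ = 0
      have : a i ∈ maximalIdeal A' := htmem _ (DFunLike.congr_fun h4 i)
      rw [hsmul, map_mul, MvPolynomial.map_C, show (A'.res : A' →+* k) (a i) = 0 from (A'.mem_maximalIdeal_iff _).mp this,
        map_zero, zero_mul]
    rw [h5, map_zero, zero_add, Finsupp.linearCombination_apply, map_finsuppSum, map_finsuppSum]
    refine Finset.sum_eq_zero fun l _ => ?_
    show π₀ (ρ _) = 0
    rw [hsmul, map_mul, map_mul, hG, show π₀ (g l : MvPolynomial (Fin n) k) = 0 from (g l).2, mul_zero]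
  -- the obstruction
  let Psi : (Fin m →₀ MvPolynomial (Fin n) k) → B₀ → Prop := fun q v =>
    ∃ (S : Fin m → P) (w : P), (∀ i, ρ (S i) = q i) ∧ ∑ i, S i * F i = T * w ∧ π w = v
  have hfun : ∀ q v v', Psi q v → Psi q v' → v = v' := by
    rintro q v v' ⟨S, w, hS, hw, rfl⟩ ⟨S', w', hS', hw', rfl⟩
    rw [← sub_eq_zero, ← map_sub]
    refine hsmall (fun i => S i - S' i) _ (fun i => by rw [map_sub, hS, hS', sub_self]) ?_
    simp only [sub_mul, Finset.sum_sub_distrib, hw, hw', mul_sub]
  have hadd : ∀ q q' v v', Psi q v → Psi q' v' → Psi (q + q') (v + v') := by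
    rintro q q' v v' ⟨S, w, hS, hw, rfl⟩ ⟨S', w', hS', hw', rfl⟩
    exact ⟨S + S', w + w', fun i => by rw [Pi.add_apply, map_add, hS, hS']; rfl,
      by simp only [Pi.add_apply, add_mul, Finset.sum_add_distrib, hw, hw', mul_add], map_add _ _ _⟩
  have hsm : ∀ r q v, Psi q v → Psi (r • q) (π₀ r * v) := by
    rintro r q v ⟨S, w, hS, hw, rfl⟩
    obtain ⟨R', rfl⟩ := hρ r
    refine ⟨fun i => R' * S i, R' * w, fun i => by rw [map_mul, hS]; rfl, ?_, map_mul π R' w⟩
    rw [mul_left_comm T, ← hw, Finset.mul_sum]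
    exact Finset.sum_congr rfl fun i _ => mul_assoc _ _ _
  have hzero : Psi 0 0 := ⟨0, 0, fun i => map_zero _, by simp, map_zero _⟩
  have hlc : ∀ q : Fin m →₀ MvPolynomial (Fin n) k, Finsupp.linearCombination _ f q = ∑ i, q i * f i := fun q => by
    rw [Finsupp.linearCombination_apply, Finsupp.sum_fintype _ _ (by simp)]
    rfl
  have htriv : ∀ q ∈ trivR f, Psi q 0 := by
    intro q hq
    induction hq using Submodule.span_induction with
    | mem y hy =>
      obtain ⟨q₁, q₂, rfl⟩ := hy
      choose S₁ hS₁ using fun i => hρ (q₁ i)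
      choose S₂ hS₂ using fun i => hρ (q₂ i)
      refine ⟨fun i => (∑ j, S₁ j * F j) * S₂ i - (∑ j, S₂ j * F j) * S₁ i, 0, fun i => ?_, ?_, map_zero _⟩
      · rw [map_sub, map_mul, map_mul, map_sum, map_sum, hS₁, hS₂, hlc, hlc, Finsupp.sub_apply, Finsupp.smul_apply,
          Finsupp.smul_apply, smul_eq_mul, smul_eq_mul]
        simp only [map_mul, hS₁, hS₂, hF]
      · rw [mul_zero]
        simp only [sub_mul, Finset.sum_sub_distrib, mul_assoc, ← Finset.mul_sum]
        ring
    | zero => exact hzero
    | add y y' _ _ h h' => simpa using hadd _ _ _ _ h h'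
    | smul r y _ h => simpa using hsm r _ _ h
  have htot : ∀ q, Finsupp.linearCombination _ f q = 0 → ∃ v, Psi q v := by
    intro q hq
    choose S hS using fun i => hρ (q i)
    have h0 : ρ (∑ i, S i * F i) = 0 := by
      rw [map_sum, ← hq, hlc]
      exact Finset.sum_congr rfl fun i _ => by rw [map_mul, hS, hF]
    obtain ⟨c, w, hcw⟩ := hIz (∑ i, S i * F i) (by
      rw [map_sum]; exact Finset.sum_eq_zero fun i _ => by rw [map_mul, hF₂, mul_zero])
    have h1 : ρ (Finsupp.linearCombination A' G c) = 0 := by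
      have h2 := congrArg ρ hcw
      rw [map_add, h0, hρT, add_zero] at h2
      exact h2.symm
    have hc : ∀ l, ρ (MvPolynomial.C (c l)) = 0 := by
      intro l
      have h2 : ∑ l ∈ c.support, A'.res (c l) • (g l) = 0 := Subtype.ext (by
        rw [Finsupp.linearCombination_apply, map_finsuppSum] at h1
        simp only [AddSubmonoidClass.coe_finsetSum, SetLike.val_smul, ZeroMemClass.coe_zero]
        refine Eq.trans (Finset.sum_congr rfl fun j _ => ?_) h1
        show _ = ρ (c j • G j)
        rw [hsmul, map_mul, MvPolynomial.map_C, hG, MvPolynomial.smul_eq_C_mul]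
        rfl)
      rw [MvPolynomial.map_C]
      by_cases hl : l ∈ c.support
      · rw [show (A'.res : A' →+* k) (c l) = 0 from linearIndependent_iff'.mp g.linearIndependent _ _ h2 l hl, map_zero]
      · rw [Finsupp.notMem_support_iff.mp hl, map_zero, map_zero]
    refine ⟨π w, fun i => S i - ∑ l ∈ c.support, MvPolynomial.C (c l) * E l i, w, fun i => ?_, ?_, rfl⟩
    · rw [map_sub, map_sum, hS, Finset.sum_eq_zero fun l _ => by rw [map_mul, hc, zero_mul], sub_zero]
    · simp only [sub_mul, Finset.sum_sub_distrib, hcw, Finset.sum_mul, mul_assoc]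
      rw [Finset.sum_comm, Finsupp.linearCombination_apply, Finsupp.sum]
      simp only [← Finset.mul_sum, hsmul, G]
      abel
  obtain ⟨htr, r, hr, hr'⟩ := hrel
  choose h hh using fun i => htot (r i) (hr i)
  have hΨ : ∀ q, Finsupp.linearCombination _ f q = 0 → Psi q (∑ i, π₀ (q i) * h i) := by
    intro q hq
    have h1 : Psi (q - Finsupp.linearCombination _ r q) 0 := htriv _ (htr _ (by
      rw [map_sub, hq, Finsupp.linearCombination_linearCombination]
      simp only [hr]
      simp [Finsupp.linearCombination_apply]) fun i => by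
      rw [← neg_sub, Finsupp.neg_apply]; exact neg_mem (hr' q hq i))
    have h2 : Psi (∑ i, q i • r i) (∑ i, π₀ (q i) * h i) := by
      have : ∀ s : Finset (Fin m), Psi (∑ i ∈ s, q i • r i) (∑ i ∈ s, π₀ (q i) * h i) := fun s => by
        induction s using Finset.induction with
        | empty => simpa using hzero
        | insert a s ha ih =>
          rw [Finset.sum_insert ha, Finset.sum_insert ha]
          exact hadd _ _ _ _ (hsm _ _ _ (hh a)) ih
      exact this _
    have e1 : Finsupp.linearCombination _ r q = ∑ i, q i • r i := by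
      rw [Finsupp.linearCombination_apply, Finsupp.sum_fintype _ _ (by simp)]
    rw [e1] at h1
    simpa using hadd _ _ _ _ h1 h2
  choose H₀ hH₀ using fun i => hπ₀ (h i)
  choose H hH using fun i => hρ (H₀ i)
  -- the corrected equations
  let F' : Fin m → P := fun i => F i - T * H i
  let K : Ideal P := Ideal.span (Set.range F')
  have hKT : ∀ w, T * w ∈ K → π w = 0 := by
    intro w hw
    obtain ⟨S, hS⟩ := Ideal.mem_span_range_iff_exists_fun.mp hw
    have h1 : ∑ i, S i * F i = T * (w + ∑ i, S i * H i) := by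
      simp only [F', mul_sub, Finset.sum_sub_distrib, sub_eq_iff_eq_add] at hS
      rw [hS, mul_add, Finset.mul_sum]
      exact congrArg₂ (· + ·) rfl (Finset.sum_congr rfl fun i _ => mul_left_comm _ _ _)
    let q : Fin m →₀ MvPolynomial (Fin n) k := Finsupp.equivFunOnFinite.symm fun i => ρ (S i)
    have hq : Finsupp.linearCombination _ f q = 0 := by
      rw [hlc, ← hρT (w + ∑ i, S i * H i), ← h1, map_sum]
      exact Finset.sum_congr rfl fun i _ => by rw [map_mul, hF]; rfl
    have h2 := hfun q _ _ ⟨S, _, fun i => rfl, h1, rfl⟩ (hΨ q hq)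
    rw [map_add, map_sum] at h2
    refine add_eq_right.mp (h2.trans (Finset.sum_congr rfl fun i _ => ?_))
    show π₀ (ρ (S i)) * h i = π₀ (ρ (S i * H i))
    rw [map_mul, map_mul, hH, hH₀]
  have hevK : K ≤ RingHom.ker ev := by
    rw [Ideal.span_le]
    rintro _ ⟨i, rfl⟩
    show ev (F i - T * H i) = 0
    rw [map_sub, hF₂, hevT, sub_zero]
  have hπK : K ≤ RingHom.ker π := fun z hz => by
    rw [RingHom.mem_ker, ← hπev, RingHom.mem_ker.mp (hevK hz), map_zero]
  have hTG : ∀ (w : P), T * w - T * Finsupp.linearCombination A' p ((hdec w).choose) ∈ K := by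
    intro w
    obtain ⟨c, hc⟩ := (hdec w).choose_spec
    rw [← mul_sub, show w - Finsupp.linearCombination A' p ((hdec w).choose) = Finsupp.linearCombination A' G c by
      conv_lhs => arg 1; rw [hc]
      abel]
    rw [Finsupp.linearCombination_apply, Finsupp.sum, Finset.mul_sum]
    refine Ideal.sum_mem _ fun l _ => ?_
    rw [hsmul, mul_left_comm, Finset.mul_sum]
    refine Ideal.mul_mem_left _ _ (Ideal.sum_mem _ fun i _ => ?_)
    rw [show T * (E l i * F i) = T * E l i * F' i by
      rw [show F' i = F i - T * H i from rfl, mul_sub, mul_assoc, mul_assoc, mul_left_comm (E l i) T, hTT, sub_zero]]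
    exact Ideal.mul_mem_left _ _ (Ideal.subset_span ⟨i, rfl⟩)
  let R' := P ⧸ K
  let mk : P →+* R' := Ideal.Quotient.mk K
  have hspan : ∀ z, ∃ a : _ →₀ A', z - Finsupp.linearCombination A' p a ∈ K := by
    intro z
    obtain ⟨a, c, rfl⟩ := hdec z
    let w := ∑ l ∈ c.support, MvPolynomial.C (c l) * ∑ i, E l i * H i
    refine ⟨a + t • (hdec w).choose, ?_⟩
    have h2 : Finsupp.linearCombination A' G c - T * w ∈ K := by
      rw [Finsupp.linearCombination_apply, Finsupp.sum, Finset.mul_sum, ← Finset.sum_sub_distrib]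
      refine Ideal.sum_mem _ fun l _ => ?_
      rw [hsmul, mul_left_comm, ← mul_sub, Finset.mul_sum, ← Finset.sum_sub_distrib]
      refine Ideal.mul_mem_left _ _ (Ideal.sum_mem _ fun i _ => ?_)
      rw [show E l i * F i - T * (E l i * H i) = E l i * F' i by
        rw [show F' i = F i - T * H i from rfl, mul_sub, mul_left_comm T]]
      exact Ideal.mul_mem_left _ _ (Ideal.subset_span ⟨i, rfl⟩)
    have h3 := add_mem h2 (hTG w)
    convert h3 using 1
    rw [map_add, map_smul, hsmul]
    abel
  let str' : A' →+* R' := mk.comp MvPolynomial.C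
  have hsmul' : ∀ (a : A') (z : P), a • mk z = mk (a • z) := fun a z =>
    (map_smul (Ideal.Quotient.mkₐ A' K) a z).symm
  have hli : LinearIndependent A' (fun i => mk (p i)) := by
    rw [linearIndependent_iff]
    intro a ha
    have h1 : Finsupp.linearCombination A' p a ∈ K := by
      rw [← Ideal.Quotient.eq_zero_iff_mem, ← ha, Finsupp.linearCombination_apply, Finsupp.linearCombination_apply,
        map_finsuppSum]
      exact Finset.sum_congr rfl fun i _ => (hsmul' _ _).symm
    have hz := RingHom.mem_ker.mp (hevK h1)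
    obtain ⟨c, w, hcw⟩ := hIz _ hz
    obtain ⟨a', c', rfl⟩ := hdec w
    have h2 : Finsupp.linearCombination A' p (a - t • a') + Finsupp.linearCombination A' G (-c - t • c') = 0 := by
      rw [map_sub, map_sub, map_neg, map_smul, map_smul, hsmul, hsmul, hcw, mul_add]
      abel
    have hat : a = t • a' := sub_eq_zero.mp (huniq _ _ h2).1
    subst hat
    rw [map_smul, hsmul] at h1
    have h3 := hKT _ h1
    rw [Finsupp.linearCombination_apply, map_finsuppSum] at h3
    have h4 : ∑ i ∈ a'.support, A'.res (a' i) • b i = 0 := by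
      refine Eq.trans (Finset.sum_congr rfl fun i _ => ?_) h3
      show _ = π₀ (ρ (a' i • p i))
      rw [hsmul, map_mul, MvPolynomial.map_C, map_mul, hp, hu, Algebra.smul_def]
      exact congrArg (· * b i) (π₀.commutes _).symm
    ext i
    rw [Finsupp.smul_apply, Finsupp.zero_apply, smul_eq_mul, mul_comm]
    by_cases hi : i ∈ a'.support
    · exact htm _ ((A'.mem_maximalIdeal_iff _).mpr (linearIndependent_iff'.mp b.linearIndependent _ _ h4 i hi))
    · rw [Finsupp.notMem_support_iff.mp hi, zero_mul]
  have hsp : ⊤ ≤ Submodule.span A' (Set.range fun i => mk (p i)) := by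
    intro z _
    obtain ⟨z, rfl⟩ := Ideal.Quotient.mk_surjective z
    obtain ⟨a, ha⟩ := hspan z
    rw [Ideal.Quotient.eq.mpr ha, Finsupp.linearCombination_apply, map_finsuppSum]
    exact Submodule.sum_mem _ fun i _ => by
      show mk (a i • p i) ∈ _
      rw [← hsmul']
      exact Submodule.smul_mem _ _ (Submodule.subset_span ⟨i, rfl⟩)
  haveI : Module.Free A' R' := Module.Free.of_basis (Module.Basis.mk hli hsp)
  let π' : R' →+* B₀ := Ideal.Quotient.lift K π hπK
  let D' : RingDef B₀ A' :=
    { R := R'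
      str := str'
      flat := (RingHom.flat_algebraMap_iff.mpr (inferInstance : Module.Flat A' R') : (algebraMap A' R').Flat)
      π := π'
      π_surjective := fun v => by
        obtain ⟨z, rfl⟩ := hπ₀ v
        obtain ⟨z, rfl⟩ := hρ z
        exact ⟨mk z, rfl⟩
      π_str := fun a => by
        show π₀ (ρ (MvPolynomial.C a)) = _
        rw [MvPolynomial.map_C]
        exact π₀.commutes _
      ker_π := by
        refine le_antisymm (fun z hz => ?_) (Ideal.map_le_iff_le_comap.mpr fun a ha => ?_)
        · obtain ⟨z, rfl⟩ := Ideal.Quotient.mk_surjective z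
          obtain ⟨a, ha⟩ := hspan z
          have hz' : π z = 0 := hz
          have h1 : π (Finsupp.linearCombination A' p a) = 0 := by
            have h2 := RingHom.mem_ker.mp (hπK ha)
            rw [map_sub, hz', zero_sub, neg_eq_zero] at h2
            exact h2
          rw [Finsupp.linearCombination_apply, map_finsuppSum] at h1
          have h4 : ∑ i ∈ a.support, A'.res (a i) • b i = 0 := by
            refine Eq.trans (Finset.sum_congr rfl fun i _ => ?_) h1
            show _ = π₀ (ρ (a i • p i))
            rw [hsmul, map_mul, MvPolynomial.map_C, map_mul, hp, hu, Algebra.smul_def]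
            exact congrArg (· * b i) (π₀.commutes _).symm
          rw [Ideal.Quotient.eq.mpr ha, Finsupp.linearCombination_apply, map_finsuppSum]
          refine Ideal.sum_mem _ fun i hi => ?_
          show (Ideal.Quotient.mk K) (a i • p i) ∈ _
          rw [hsmul, map_mul]
          exact Ideal.mul_mem_right _ _ (Ideal.mem_map_of_mem str'
            ((A'.mem_maximalIdeal_iff _).mpr (linearIndependent_iff'.mp b.linearIndependent _ _ h4 i hi)))
        · show π₀ (ρ (MvPolynomial.C a)) = 0
          rw [MvPolynomial.map_C, show (A'.res : A' →+* k) a = 0 from (A'.mem_maximalIdeal_iff _).mp ha, map_zero, map_zero] }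
  refine ⟨D', ⟨⟨Ideal.Quotient.lift K ev hevK, fun a => ?_, fun z => ?_⟩⟩⟩
  · exact hevC a
  · obtain ⟨z, rfl⟩ := Ideal.Quotient.mk_surjective z
    exact hπev z

end Groth.Agent.DefSchLib
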